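import Cfsg.Agent.Lib.Schur.E6Two.Rules
import Cfsg.Agent.Lib.ChevStr.InstanceTables

/-!
A checked collector for words in the positive root elements of E₆ over the field with four elements,
and the check of the rules of ²E₆(2) on the positive indices.
-/

set_option autoImplicit false
set_option maxRecDepth 100000

namespace CfsgLib.Schur.E6Two

open Cfsg.Lie CfsgLib.ChevStr

/-- Multiplication of the codes `0, 1, 2, 3` of the elements `0, 1, ω, ω + 1`. -/
def mulC (x y : ℕ) : ℕ := (0x9c78e400 >>> (2 * (4 * x + y))) % 4

/-- The code word of a generator. -/
def gcode (i : ℕ) : List (ℕ × ℕ) :=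
  if Nat.beq (rho i) i then [(rt i, 1)] else [(rt i, 2), (rt (rho i), 3)]

/-- The code of the commutator of two positive root elements. -/
def commC (k a : ℕ × ℕ) : Option (List (ℕ × ℕ)) :=
  if Nat.ble 36 k.1 && Nat.blt k.1 72 && Nat.ble 36 a.1 && Nat.blt a.1 72 && Nat.blt k.2 4 &&
      Nat.blt a.2 4 then
    match chevE6.commTerms k.1 a.1 with
    | [] => some []
    | [(m, z, 1, 1)] => if z == 1 || z == -1 then some [(m, mulC k.2 a.2)] else none
    | _ => none
  else none

/-- Left multiplication of a collected code word by a code word, with fuel. -/
def collect : ℕ → List (ℕ × ℕ) → List (ℕ × ℕ) → Option (List (ℕ × ℕ))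
  | 0, _, _ => none
  | _ + 1, [], g => some g
  | f + 1, a :: w, g =>
    match collect f w g with
    | none => none
    | some [] => some [a]
    | some (k :: z) =>
      if Nat.blt a.1 k.1 then some (a :: k :: z)
      else if Nat.beq a.1 k.1 then
        if Nat.blt a.2 4 && Nat.blt k.2 4 then
          if Nat.beq (a.2 ^^^ k.2) 0 then some z else some ((k.1, a.2 ^^^ k.2) :: z)
        else none
      else
        match commC k a with
        | none => none
        | some t =>
          match collect f (a :: t) z with
          | none => none
          | some z' => some (k :: z')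

/-- Two code words have the same collected form. -/
def sameC (w w' : List (ℕ × ℕ)) : Bool :=
  match collect 400 w [], collect 400 w' [] with
  | some g, some g' => g == g'
  | _, _ => false

/-- The rules hold on the positive indices. -/
def rulesOK : Bool :=
  posList.all fun a => sameC (gcode a ++ gcode a) [] && posList.all fun b =>
    !(ok b a) || sameC (gcode a ++ gcode b) (gcode b ++ gcode a ++ (tab b a).flatMap gcode)

theorem rulesOK_eq : rulesOK = true := by decide +kernel

theorem pos_native : ∀ r < 72, 36 ≤ r → chevE6.IsPosRoot r := by decide +kernel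

section sound

variable {K : Type*} [Field K] [CharP K 2] (w : K)

/-- The element with a given code. -/
def cv : ℕ → K
  | 0 => 0
  | 1 => 1
  | 2 => w
  | _ => w + 1

theorem cast_sign {z : ℤ} (h : z = 1 ∨ z = -1) : (z : K) = 1 := by
  rcases h with rfl | rfl <;> simp [CharTwo.neg_eq]

theorem cv_xor {x y : ℕ} (hx : x < 4) (hy : y < 4) : cv w (x ^^^ y) = cv w x + cv w y := by
  have h2 : (2 : K) = 0 := CharTwo.two_eq_zero
  interval_cases x <;> interval_cases y <;> simp [cv] <;> ring_nf <;> simp [h2]

variable {w} (hw : w * w = w + 1)
include hw

theorem cv_mul {x y : ℕ} (hx : x < 4) (hy : y < 4) : cv w (mulC x y) = cv w x * cv w y := by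
  have h2 : (2 : K) = 0 := CharTwo.two_eq_zero
  have hw' : w ^ 2 = w + 1 := by rw [sq, hw]
  interval_cases x <;> interval_cases y <;> simp [cv, mulC] <;> ring_nf <;> simp [hw', h2] <;>
    ring_nf <;> simp [hw', h2]

variable (w) in
omit hw [CharP K 2] in
/-- The value of a code word. -/
noncomputable def evC (l : List (ℕ × ℕ)) : GL chevE6.Idx K :=
  (coreE6 K).wordGL (l.map fun p => (p.1, cv w p.2))

omit hw [CharP K 2] in
theorem evC_nil : evC w [] = 1 := rfl

omit hw [CharP K 2] in
theorem evC_cons (a : ℕ × ℕ) (l : List (ℕ × ℕ)) :
    evC w (a :: l) = (coreE6 K).xGL a.1 (cv w a.2) * evC w l :=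
  (coreE6 K).wordGL_cons _ _

omit hw [CharP K 2] in
theorem evC_append (l l' : List (ℕ × ℕ)) : evC w (l ++ l') = evC w l * evC w l' := by
  rw [evC, List.map_append]
  exact (coreE6 K).wordGL_append _ _

theorem commC_sound {k a : ℕ × ℕ} {t : List (ℕ × ℕ)} (h : commC k a = some t) (hne : a.1 ≠ k.1) :
    (coreE6 K).xGL a.1 (cv w a.2) * (coreE6 K).xGL k.1 (cv w k.2) =
      (coreE6 K).xGL k.1 (cv w k.2) * (coreE6 K).xGL a.1 (cv w a.2) * evC w t := by
  unfold commC at h
  split at h
  · next hb =>
    simp only [Bool.and_eq_true, Nat.blt_eq, Nat.ble_eq] at hb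
    obtain ⟨⟨⟨⟨⟨hk1, hk2⟩, ha1⟩, ha2⟩, hk⟩, ha⟩ := hb
    have hneg : a.1 ≠ chevE6.neg k.1 := fun e =>
      rootDataE6.not_pos_and_neg (pos_native _ ha2 ha1)
        (e ▸ (rootDataE6.isNeg_neg_iff hk2).2 (pos_native _ hk2 hk1))
    rw [(coreE6 K).xGL_comm (r := k.1) (s := a.1) hk2 ha2 hne hneg]
    congr 1
    split at h
    · next he =>
      rw [Option.some.injEq] at h
      subst h
      simp [ChevalleyDatum.commWord, he, evC]
    · next m z he =>
      split at h
      · next hz =>
        rw [Option.some.injEq] at h
        subst h
        simp only [Bool.or_eq_true, beq_iff_eq] at hz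
        simp [ChevalleyDatum.commWord, he, evC, cast_sign hz, CharTwo.neg_eq, cv_mul hw hk ha]
      · simp at h
    · simp at h
  · simp at h

theorem collect_sound : ∀ (f : ℕ) (l g g' : List (ℕ × ℕ)), collect f l g = some g' →
    evC w l * evC w g = evC w g' := by
  intro f
  induction f with
  | zero => intro l g g' h; simp [collect] at h
  | succ f ih =>
    intro l g g' h
    cases l with
    | nil =>
      simp only [collect, Option.some.injEq] at h
      subst h
      rw [evC_nil, one_mul]
    | cons a l =>
      simp only [collect] at h
      split at h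
      · simp at h
      · next h1 =>
        rw [Option.some.injEq] at h
        subst h
        rw [evC_cons, mul_assoc, ih l g _ h1, evC_cons]
      · next k z h1 =>
        rw [evC_cons, mul_assoc, ih l g _ h1]
        split at h
        · rw [Option.some.injEq] at h
          subst h
          rw [← evC_cons]
        · split at h
          · next hak =>
            have hak' : a.1 = k.1 := Nat.eq_of_beq_eq_true hak
            split at h
            · next hc =>
              simp only [Bool.and_eq_true, Nat.blt_eq] at hc
              have e : (coreE6 K).xGL a.1 (cv w a.2) * (coreE6 K).xGL k.1 (cv w k.2) =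
                  (coreE6 K).xGL k.1 (cv w (a.2 ^^^ k.2)) := by
                rw [hak', cv_xor w hc.1 hc.2, (coreE6 K).xGL_add]
              rw [evC_cons, ← mul_assoc, e]
              split at h
              · next h0 =>
                rw [Option.some.injEq] at h
                subst h
                rw [Nat.eq_of_beq_eq_true h0, show cv w 0 = 0 from rfl, (coreE6 K).xGL_zero, one_mul]
              · rw [Option.some.injEq] at h
                subst h
                rw [evC_cons]
            · simp at h
          · next hak =>
            split at h
            · simp at h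
            · next t h2 =>
              split at h
              · simp at h
              · next z' h3 =>
                rw [Option.some.injEq] at h
                subst h
                have hne : a.1 ≠ k.1 := fun e => hak (by simp [e])
                rw [evC_cons, evC_cons, ← ih _ z z' h3, ← mul_assoc, commC_sound hw h2 hne,
                  evC_cons]
                simp only [mul_assoc]

theorem sameC_sound {l l' : List (ℕ × ℕ)} (h : sameC l l' = true) : evC w l = evC w l' := by
  unfold sameC at h
  split at h
  · next g g' h1 h2 =>
    rw [beq_iff_eq] at h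
    subst h
    have e1 := collect_sound hw _ _ _ _ h1
    have e2 := collect_sound hw _ _ _ _ h2
    rw [evC_nil, mul_one] at e1 e2
    rw [e1, e2]
  · simp at h

end sound

end CfsgLib.Schur.E6Two
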