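import Cfsg.Agent.Lib.Schur.E6Two.Collect
import Cfsg.Agent.Lib.TwistedStr.StrE6

/-!
The generators of ²E₆(2): they lie in the group, the twisted reflections permute them, and they
satisfy the rules with trivial central elements.
-/

set_option autoImplicit false
set_option maxRecDepth 100000

namespace CfsgLib.Schur.E6Two

open Cfsg.Lie CfsgLib.ChevStr CfsgLib.Twisted
open scoped MatrixGroups

/-! ### Checks -/

/-- Equal or reversed. -/
def sameTab (l l' : List ℕ) : Bool := l == l' || l == l'.reverse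

/-- The descent of a pair to positive indices. -/
def descOK : ℕ → ℕ → ℕ → Bool
  | 0, r, s => Nat.ble 36 r && Nat.ble 36 s
  | f + 1, r, s => (Nat.ble 36 r && Nat.ble 36 s) ||
    (ok (refl (desc r s) r) (refl (desc r s) s) &&
      sameTab (tab (refl (desc r s) r) (refl (desc r s) s)) ((tab r s).map (refl (desc r s))) &&
        descOK f (refl (desc r s) r) (refl (desc r s) s))

theorem desc_check : ((List.range 72).all fun r => (List.range 72).all fun s =>
    !(ok r s) || descOK 12 r s) = true := by decide +kernel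

theorem desc_lt (r s : ℕ) : desc r s < 4 := Nat.mod_lt _ (by norm_num)

theorem refl_check : ∀ k : Fin 4, ∀ i : Fin 72, ∃ _ : refl k i < 72, ∃ h' : rt i < chevE6.nroots,
    (reflDataE6.wordPerm (e6TwistWord k) ⟨rt i, h'⟩ : ℕ) = rt (refl k i) := by
  decide +kernel

theorem refl_up : ∀ i : Fin 36, ∃ k : Fin 4, (i : ℕ) < refl k i := by decide +kernel

theorem pair_check : ∀ i : Fin 72, rho i ≠ i → rt i ≠ rt (rho i) ∧
    rt (rho i) ≠ chevE6.neg (rt i) ∧ chevE6.commTerms (rt i) (rt (rho i)) = [] ∧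
      e6Sym.root (rt (rho i)) = rt i := by
  decide +kernel

theorem root_data : ∀ r < chevE6.nroots, (e6Sym.sign r = 1 ∨ e6Sym.sign r = -1) ∧
    e6Sym.root r < chevE6.nroots := by
  decide +kernel

/-- The reflections respect the rules. -/
theorem respects_check : ((List.range 4).all fun k => (List.range 72).all fun r =>
    (List.range 72).all fun s => !(ok r s) || (ok (refl k r) (refl k s) &&
      (twist (refl k r) (refl k s) == twist r s) &&
      sameTab (tab (refl k r) (refl k s)) ((tab r s).map (refl k)))) = true := by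
  decide +kernel

/-! ### Maps respecting the rules -/

/-- A map of indices respects the rules. -/
def Respects (σ : ℕ → ℕ) : Prop :=
  ∀ r s, ok r s = true → ok (σ r) (σ s) = true ∧ twist (σ r) (σ s) = twist r s ∧
    (tab (σ r) (σ s) = (tab r s).map σ ∨ tab (σ r) (σ s) = ((tab r s).map σ).reverse)

theorem respects_id : Respects id := fun r s h => ⟨h, rfl, Or.inl (by simp)⟩

theorem respects_refl {k : ℕ} (hk : k < 4) : Respects (refl k) := by
  intro r s h
  obtain ⟨hr, hs⟩ := ok_lt h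
  have h1 := List.all_eq_true.1 (List.all_eq_true.1 (List.all_eq_true.1 respects_check k
    (List.mem_range.2 hk)) r (List.mem_range.2 hr)) s (List.mem_range.2 hs)
  simp only [h, Bool.not_true, Bool.false_or, Bool.and_eq_true, beq_iff_eq, sameTab,
    Bool.or_eq_true] at h1
  exact ⟨h1.1.1, h1.1.2, h1.2⟩

theorem Respects.comp {σ τ : ℕ → ℕ} (h : Respects σ) (h' : Respects τ) : Respects (σ ∘ τ) := by
  intro r s hok
  obtain ⟨h1, ht, h2⟩ := h' r s hok
  obtain ⟨h3, ht', h4⟩ := h _ _ h1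
  refine ⟨h3, ht'.trans ht, ?_⟩
  show tab (σ (τ r)) (σ (τ s)) = _ ∨ _
  rcases h2 with h2 | h2 <;> rcases h4 with h4 | h4 <;> rw [h2] at h4 <;>
    simp_all [List.map_reverse, List.map_map, Function.comp_def]

theorem ev_reverse {H : Type*} [Group H] {y : ℕ → H} {L : List ℕ}
    (h : ∀ a ∈ L, ∀ b ∈ L, y a * y b = y b * y a) : ev y L.reverse = ev y L := by
  refine List.Perm.prod_eq' ((List.reverse_perm L).map y) ?_
  rw [List.pairwise_map]
  refine List.Pairwise.imp_of_mem (R := fun _ _ => True) (fun {a b} ha hb _ => ?_)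
    (List.pairwise_of_forall fun _ _ => trivial)
  exact h a (List.mem_reverse.1 ha) b (List.mem_reverse.1 hb)

theorem ev_sameTab {H : Type*} [Group H] {y : ℕ → H} {l l' : List ℕ}
    (h : l = l' ∨ l = l'.reverse) (hc : ∀ a ∈ l, ∀ b ∈ l, y a * y b = y b * y a) :
    ev y l = ev y l' := by
  rcases h with rfl | rfl
  · rfl
  · exact ev_reverse fun a ha b hb => hc a (List.mem_reverse.2 ha) b (List.mem_reverse.2 hb)

theorem cz_one {H : Type*} [Group H] (e : ℕ × ℕ) : cz ((1 : H), (1 : H)) e = 1 := by simp [cz]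

theorem Sat.comm_tab {H : Type*} [Group H] {L : List ℕ} {y : ℕ → H} {c : H × H} (h : Sat L y c)
    {r s : ℕ} (hok : ok r s = true) (hL : ∀ k ∈ tab r s, k ∈ L) :
    ∀ a ∈ tab r s, ∀ b ∈ tab r s, y a * y b = y b * y a := by
  intro a ha b hb
  rcases eq_or_ne b a with rfl | hne
  · rfl
  obtain ⟨h1, h2, h3⟩ := (tab_facts hok).2.2.2 b hb a ha hne
  rw [h.swap a (hL a ha) b (hL b hb) h1, h2, h3]
  simp [cz]

/-- Renamed root elements satisfy the rules. -/
theorem Sat.rename {H : Type*} [Group H] {L L' : List ℕ} {y : ℕ → H} {c : H × H} (h : Sat L y c)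
    {σ : ℕ → ℕ} (hσ : Respects σ) (hmem : ∀ a ∈ L', σ a ∈ L)
    (htab : ∀ a ∈ L', ∀ b ∈ L', ok b a = true → ∀ m ∈ tab b a, m ∈ L') :
    Sat L' (fun a => y (σ a)) c := by
  refine ⟨⟨h.cen.sq1, h.cen.sq2, h.cen.comm12, fun a ha => h.cen.comm1 _ (hmem a ha),
    fun a ha => h.cen.comm2 _ (hmem a ha)⟩, fun a ha => h.sq _ (hmem a ha),
    fun a ha b hb hok => ?_⟩
  obtain ⟨hok', htw, ht⟩ := hσ b a hok
  show y (σ a) * y (σ b) = _
  have hL : ∀ m ∈ tab (σ b) (σ a), m ∈ L := fun m hm => by
    rcases ht with e | e <;> rw [e] at hm <;> simp only [List.mem_reverse, List.mem_map] at hm <;>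
      obtain ⟨d, hd, rfl⟩ := hm <;> exact hmem d (htab a ha b hb hok d hd)
  rw [h.swap _ (hmem a ha) _ (hmem b hb) hok', htw,
    show ev (fun a => y (σ a)) (tab b a) = ev y ((tab b a).map σ) by
      simp [ev, List.map_map, Function.comp_def],
    ev_sameTab ht (h.comm_tab hok' hL)]

theorem posList_mem {a : ℕ} : a ∈ posList ↔ 36 ≤ a ∧ a < 72 := by
  rw [posList, List.mem_range'_1]

theorem posList_lt : ∀ a ∈ posList, a < 72 := fun _ h => (posList_mem.1 h).2

theorem rho_lt {i : ℕ} (hi : i < 72) : rho i < 72 := (index_check i hi).2.2.2.2.1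

theorem rho_rho {i : ℕ} (hi : i < 72) : rho (rho i) = i := (index_check i hi).2.2.2.2.2.1

theorem rt_lt {i : ℕ} (hi : i < 72) : rt i < chevE6.nroots := (index_check i hi).1

theorem rt_inj {i j : ℕ} (hi : i < 72) (hj : j < 72) (h : rt i = rt j) : i = j := by
  have h1 := List.all_eq_true.1 (index_check i hi).2.2.2.2.2.2 j (List.mem_range.2 hj)
  simp only [Bool.or_eq_true, Bool.not_eq_true'] at h1
  rcases h1 with h1 | h1
  · exact (Nat.eq_of_beq_eq_true h1).symm
  · rw [h, Nat.beq_refl] at h1; exact absurd h1 (by simp)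

theorem rt_pos {i : ℕ} (h36 : 36 ≤ i) (hi : i < 72) :
    chevE6.IsPosRoot (rt i) ∧ chevE6.IsPosRoot (rt (rho i)) := by
  have h := ((index_check i hi).2.1).1 h36
  refine ⟨h, ?_⟩
  have hr := (index_check i hi).2.2.2.1
  rw [← hr]
  have key : ∀ r : Fin chevE6.nroots, chevE6.IsPosRoot r → chevE6.IsPosRoot (e6Sym.root r) := by
    decide +kernel
  exact key ⟨rt i, rt_lt hi⟩ h

/-- The root of an index. -/
def rtF (i : Fin 72) : Fin chevE6.nroots := ⟨rt i, rt_lt i.isLt⟩

theorem rhoE6_rtF (i : Fin 72) : rhoE6 (rtF i) = rtF ⟨rho i, rho_lt i.isLt⟩ :=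
  Fin.ext (index_check i i.isLt).2.2.2.1

section field

variable {K : Type*} [Field K] (w : K)

/-- The generator of an index. -/
noncomputable def gGL (i : ℕ) : GL chevE6.Idx K := evC w (gcode i)

theorem gGL_fixed {i : ℕ} (h : rho i = i) : gGL w i = (coreE6 K).xGL (rt i) 1 := by
  simp [gGL, gcode, h, evC, cv, ChevCore.wordGL]

theorem gGL_pair {i : ℕ} (h : rho i ≠ i) :
    gGL w i = (coreE6 K).xGL (rt i) w * (coreE6 K).xGL (rt (rho i)) (w + 1) := by
  simp [gGL, gcode, h, evC, cv, ChevCore.wordGL]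

/-- A subgroup contains a generator as soon as it contains its root elements. -/
theorem gGL_mem_of {S : Subgroup (GL chevE6.Idx K)} {i : ℕ}
    (h1 : ∀ t : K, (coreE6 K).xGL (rt i) t ∈ S) (h2 : ∀ t : K, (coreE6 K).xGL (rt (rho i)) t ∈ S) :
    gGL w i ∈ S := by
  by_cases hr : rho i = i
  · rw [gGL_fixed w hr]; exact h1 1
  · rw [gGL_pair w hr]; exact mul_mem (h1 w) (h2 (w + 1))

/-- The representative of a twisted reflection. -/
noncomputable def nK (k : Fin 4) : GL chevE6.Idx K := ((e6TwistWord k).map (coreE6 K).nS).prod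

theorem acts_nK (k : Fin 4) :
    (coreE6 K).Acts (nK k) (reflDataE6.wordPerm (e6TwistWord k)) := by
  have key : ∀ L : List (Fin chevE6.rank),
      (coreE6 K).Acts (L.map (coreE6 K).nS).prod ((coreE6 K).hR.wordPerm L) := by
    intro L
    induction L with
    | nil => exact (coreE6 K).acts_one
    | cons a L ih =>
      rw [List.map_cons, List.prod_cons,
        show (coreE6 K).hR.wordPerm (a :: L) = (coreE6 K).hR.sPerm a * (coreE6 K).hR.wordPerm L by
          simp [ReflData.wordPerm]]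
      exact ChevCore.Acts.mul (coreE6 K) ((coreE6 K).acts_nS a) ih
  exact key _

variable [CharP K 2]

theorem conj_x {n : GL chevE6.Idx K} {v : Equiv.Perm (Fin chevE6.nroots)}
    (h : (coreE6 K).Acts n v) (s : Fin chevE6.nroots) (t : K) :
    n * (coreE6 K).xGL s t * n⁻¹ = (coreE6 K).xGL (v s) t := by
  obtain ⟨-, e, he⟩ := h
  rw [(he s).2.2 t, cast_sign (he s).1, one_mul]

/-- A monomial element commuting with the graph automorphism permutes the generators. -/
theorem conj_gGL {n : GL chevE6.Idx K} {v : Equiv.Perm (Fin chevE6.nroots)}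
    (h : (coreE6 K).Acts n v) (hv : Commute rhoE6 v) {i j : Fin 72} (hij : v (rtF i) = rtF j) :
    n * gGL w i * n⁻¹ = gGL w j := by
  have h1 : v (rhoE6 (rtF i)) = rhoE6 (rtF j) := by
    rw [← Equiv.Perm.mul_apply v rhoE6, ← hv.eq, Equiv.Perm.mul_apply, hij]
  by_cases hi : rho i = i
  · have hj : rho j = j := by
      have e : rhoE6 (rtF i) = rtF i := by rw [rhoE6_rtF]; exact congrArg rtF (Fin.ext hi)
      rw [e, hij, rhoE6_rtF] at h1
      exact (rt_inj j.isLt (rho_lt j.isLt) (congrArg Fin.val h1)).symm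
    rw [gGL_fixed w hi, gGL_fixed w hj]
    exact (conj_x h (rtF i) 1).trans (by rw [hij]; rfl)
  · have hj : rho j ≠ j := fun hj => hi (by
      have e : rhoE6 (rtF j) = rtF j := by rw [rhoE6_rtF]; exact congrArg rtF (Fin.ext hj)
      rw [e, ← hij, rhoE6_rtF] at h1
      exact rt_inj (rho_lt i.isLt) i.isLt (congrArg Fin.val (v.injective h1)))
    rw [gGL_pair w hi, gGL_pair w hj,
      show n * ((coreE6 K).xGL (rt i) w * (coreE6 K).xGL (rt (rho i)) (w + 1)) * n⁻¹ =
        n * (coreE6 K).xGL (rtF i) w * n⁻¹ *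
          (n * (coreE6 K).xGL (rtF ⟨rho i, rho_lt i.isLt⟩) (w + 1) * n⁻¹) by
        simp only [rtF, mul_assoc, inv_mul_cancel_left],
      conj_x h, conj_x h, hij, ← rhoE6_rtF, h1, rhoE6_rtF]
    rfl

theorem conj_refl (k : Fin 4) {i : ℕ} (hi : i < 72) :
    nK k * gGL w i * (nK k)⁻¹ = gGL w (refl k i) := by
  obtain ⟨h, h', e⟩ := refl_check k ⟨i, hi⟩
  refine conj_gGL w (acts_nK k) ?_ (i := ⟨i, hi⟩) (j := ⟨refl k i, h⟩) (Fin.ext e)
  exact Equiv.ext fun r => e6_word_comm k r

variable {w} (hw : w * w = w + 1)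
include hw

theorem act_gGL (i : Fin 72) : (frobE6 K 2 1).act (gGL w i) = gGL w i := by
  have hs : ∀ r < chevE6.nroots, ∀ t : K, (frobE6 K 2 1).act ((coreE6 K).xGL r t) =
      (coreE6 K).xGL (e6Sym.root r) (t * t) := fun r hr t => by
    rw [(frobE6 K 2 1).act_word (root := e6Sym.root) (fun _ => rfl) hr]
    show (coreE6 K).xGL (e6Sym.root r) ((e6Sym.sign r : K) * t ^ 2 ^ 1) = _
    rw [cast_sign (root_data r hr).1, one_mul, pow_one, sq]
  have h0 := rt_lt i.isLt
  have hr := (index_check i i.isLt).2.2.2.1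
  by_cases hi : rho i = i
  · rw [gGL_fixed w hi, hs _ h0, hr, hi, one_mul]
  · obtain ⟨n1, n2, n3, n4⟩ := pair_check i hi
    have h1 := rt_lt (rho_lt i.isLt)
    have e : (w + 1) * (w + 1) = w := by
      linear_combination hw + (w + 1) * (CharTwo.two_eq_zero : (2 : K) = 0)
    rw [gGL_pair w hi, (frobE6 K 2 1).act_mul ((coreE6 K).xGL_mem_group _ _)
      ((coreE6 K).xGL_mem_group _ _), hs _ h0, hs _ h1, hr, n4, hw, e,
      ((coreE6 K).xGL_commute h0 h1 (Ne.symm n1) n2 (by simp [n3]) w (w + 1))]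

theorem sat_pos : Sat posList (gGL w) (1, 1) := by
  have h := rulesOK_eq
  simp only [rulesOK, List.all_eq_true, Bool.and_eq_true, Bool.or_eq_true,
    Bool.not_eq_true'] at h
  refine ⟨⟨one_mul 1, one_mul 1, rfl, fun a _ => by simp, fun a _ => by simp⟩, fun a ha => ?_,
    fun a ha b hb hok => ?_⟩
  · show evC w (gcode a) * evC w (gcode a) = 1
    rw [← evC_append, sameC_sound hw (h a ha).1, evC_nil]
  · have e := sameC_sound hw (((h a ha).2 b hb).resolve_left (by simp [hok]))
    rw [evC_append, evC_append, evC_append] at e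
    have eflat : ∀ l : List ℕ, evC w (l.flatMap gcode) = ev (gGL w) l := fun l => by
      induction l with
      | nil => rfl
      | cons m l ih => rw [List.flatMap_cons, evC_append, ih, ev_cons]; rfl
    rw [cz_one, mul_one, ← eflat]
    exact e

theorem swap_all : ∀ f a b, a < 72 → b < 72 → ok b a = true → descOK f b a = true →
    (tab b a = [] → gGL w a * gGL w b = gGL w b * gGL w a) ∧
      ((∀ r s, r < 72 → s < 72 → ok s r = true → tab s r = [] →
        gGL w r * gGL w s = gGL w s * gGL w r) →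
      gGL w a * gGL w b = gGL w b * gGL w a * ev (gGL w) (tab b a)) := by
  have hbase : ∀ a b, 36 ≤ b → 36 ≤ a → a < 72 → b < 72 → ok b a = true →
      gGL w a * gGL w b = gGL w b * gGL w a * ev (gGL w) (tab b a) := fun a b hb ha ha' hb' hok => by
    have h := (sat_pos hw).swap a (posList_mem.2 ⟨ha, ha'⟩) b (posList_mem.2 ⟨hb, hb'⟩) hok
    rwa [cz_one, mul_one] at h
  intro f
  induction f with
  | zero =>
    intro a b ha hb hok hd
    simp only [descOK, Bool.and_eq_true, Nat.ble_eq] at hd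
    have h := hbase a b hd.1 hd.2 ha hb hok
    exact ⟨fun e => by rwa [e, ev_nil, mul_one] at h, fun _ => h⟩
  | succ f ih =>
    intro a b ha hb hok hd
    simp only [descOK, Bool.or_eq_true, Bool.and_eq_true, Nat.ble_eq, sameTab, beq_iff_eq] at hd
    rcases hd with hd | ⟨⟨hok', htab⟩, hd⟩
    · have h := hbase a b hd.1 hd.2 ha hb hok
      exact ⟨fun e => by rwa [e, ev_nil, mul_one] at h, fun _ => h⟩
    · obtain ⟨k, hk⟩ : ∃ k : Fin 4, (k : ℕ) = desc b a := ⟨⟨_, desc_lt b a⟩, rfl⟩
      rw [← hk] at hok' htab hd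
      have hlt := ok_lt hok'
      obtain ⟨ih1, ih2⟩ := ih _ _ hlt.2 hlt.1 hok' hd
      have hcj : ∀ {i : ℕ}, i < 72 → gGL w (refl k i) = MulAut.conj (nK k) (gGL w i) :=
        fun hi => (conj_refl w k hi).symm
      refine ⟨fun e => ?_, fun hcomm => ?_⟩
      · have e' : tab (refl k b) (refl k a) = [] := by
          rcases htab with h | h <;> simp [h, e]
        have h := ih1 e'
        rw [hcj ha, hcj hb, ← map_mul, ← map_mul] at h
        exact (MulAut.conj (nK k)).injective h
      · have h := ih2 hcomm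
        have hev : ev (gGL w) (tab (refl k b) (refl k a)) =
            MulAut.conj (nK k) (ev (gGL w) (tab b a)) := by
          rw [ev_sameTab htab fun c hc d hd' => ?_]
          · simp only [ev, List.map_map, map_list_prod]
            refine congrArg List.prod (List.map_congr_left fun c hc => ?_)
            exact hcj ((tab_facts hok).2.2.1 c hc)
          · obtain ⟨-, -, hlt', hpair⟩ := tab_facts hok'
            rcases eq_or_ne d c with rfl | hne
            · rfl
            · obtain ⟨p1, p2, -⟩ := hpair d hd' c hc hne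
              exact hcomm c d (hlt' c hc) (hlt' d hd') p1 p2
        rw [hev, hcj ha, hcj hb, ← map_mul, ← map_mul, ← map_mul] at h
        exact (MulAut.conj (nK k)).injective h

theorem sat_gGL : Sat (List.range 72) (gGL w) (1, 1) := by
  have hd : ∀ a b, a < 72 → b < 72 → ok b a = true → descOK 12 b a = true := fun a b ha hb hok => by
    simpa [hok] using List.all_eq_true.1 (List.all_eq_true.1 desc_check b (List.mem_range.2 hb)) a
      (List.mem_range.2 ha)
  have hcomm : ∀ r s, r < 72 → s < 72 → ok s r = true → tab s r = [] →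
      gGL w r * gGL w s = gGL w s * gGL w r := fun r s hr hs hok =>
    (swap_all hw 12 r s hr hs hok (hd r s hr hs hok)).1
  refine ⟨⟨one_mul 1, one_mul 1, rfl, fun a _ => by simp, fun a _ => by simp⟩, ?_,
    fun a ha b hb hok => ?_⟩
  · have up : ∀ m, ∀ i, 36 ≤ i + m → i < 72 → gGL w i * gGL w i = 1 := by
      intro m
      induction m with
      | zero => exact fun i h hi => (sat_pos hw).sq i (posList_mem.2 ⟨by omega, hi⟩)
      | succ m ih =>
        intro i h hi
        by_cases h36 : 36 ≤ i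
        · exact (sat_pos hw).sq i (posList_mem.2 ⟨h36, hi⟩)
        obtain ⟨k, (hk : i < refl k i)⟩ := refl_up ⟨i, by omega⟩
        obtain ⟨hlt, -, -⟩ := refl_check k ⟨i, hi⟩
        have e := ih (refl k i) (by omega) hlt
        rw [← conj_refl w k hi] at e
        exact (MulAut.conj (nK k)).injective (by rw [map_mul, map_one]; exact e)
    exact fun a ha => up 36 a (by omega) (List.mem_range.1 ha)
  · rw [List.mem_range] at ha hb
    rw [cz_one, mul_one]
    exact (swap_all hw 12 a b ha hb hok (hd a b ha hb hok)).2 hcomm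

variable [Fintype K] (hn : Fintype.card K = (2 ^ 1) * (2 ^ 1))
include hn

omit hw hn [Fintype K] in
theorem nK_mem (k : Fin 4) : nK (K := K) k ∈ twistedE6 K (2 ^ 1) := by
  obtain ⟨s0, s1, s2, s3, s4, s5, m0, m1, m2, m3, m4, m5⟩ := e6_simples
  obtain ⟨h05, h24⟩ := e6_commPairs
  have gen : ∀ a b : ℕ, (a, b) ∈ [(e6p1, e6p6), (e6m1, e6m6), (e6p3, e6p5), (e6m3, e6m5)] →
      (coreE6 K).xGL a 1 * (coreE6 K).xGL b 1 ∈ twistedE6 K (2 ^ 1) := fun a b hab => by
    have h := (coreE6 K).wordGL_mem_gen (W := e6Words K (2 ^ 1)) (Or.inr ⟨1, (a, b), hab, rfl⟩)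
    simp only [ChevCore.wordGL_cons, ChevCore.wordGL_nil, mul_one, one_pow] at h
    exact h
  have gen1 : ∀ a : ℕ, a ∈ [e6p2, e6m2, e6p4, e6m4] →
      (coreE6 K).xGL a 1 ∈ twistedE6 K (2 ^ 1) := fun a ha => by
    have h := (coreE6 K).wordGL_mem_gen (W := e6Words K (2 ^ 1))
      (Or.inl ⟨1, one_pow _, a, ha, rfl⟩)
    simp only [ChevCore.wordGL_cons, ChevCore.wordGL_nil, mul_one] at h
    exact h
  have hpair : ∀ i j : Fin chevE6.rank, CommPair chevE6 (chevE6.simple i.val) (chevE6.simple j.val) →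
      (coreE6 K).xGL (chevE6.simple i.val) 1 * (coreE6 K).xGL (chevE6.simple j.val) 1 ∈
        twistedE6 K (2 ^ 1) →
      (coreE6 K).xGL (chevE6.neg (chevE6.simple i.val)) 1 *
        (coreE6 K).xGL (chevE6.neg (chevE6.simple j.val)) 1 ∈ twistedE6 K (2 ^ 1) →
      (coreE6 K).nS i * (coreE6 K).nS j ∈ twistedE6 K (2 ^ 1) := by
    intro i j hij hp hm
    have hc := hij.commute (coreE6 K)
    simp only [ChevCore.nS, nGL_prod, inv_one, CharTwo.neg_eq]
    rw [← sandwich_mul (hc _ (by simp) _ (by simp) _ _) (hc _ (by simp) _ (by simp) _ _)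
      (hc _ (by simp) _ (by simp) _ _)]
    exact mul_mem hp (mul_mem hm hp)
  have hsingle : ∀ i : Fin chevE6.rank, (coreE6 K).xGL (chevE6.simple i.val) 1 ∈ twistedE6 K (2 ^ 1) →
      (coreE6 K).xGL (chevE6.neg (chevE6.simple i.val)) 1 ∈ twistedE6 K (2 ^ 1) →
      (coreE6 K).nS i ∈ twistedE6 K (2 ^ 1) := by
    intro i hp hm
    simp only [ChevCore.nS, nGL_prod, inv_one, CharTwo.neg_eq]
    exact mul_mem hp (mul_mem hm hp)
  fin_cases k <;> simp only [nK, e6TwistWord, List.map_cons, List.map_nil, List.prod_cons,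
    List.prod_nil, mul_one]
  · exact hpair ⟨0, by decide⟩ ⟨5, by decide⟩ h05 (by simpa [s0, s5] using gen _ _ (by simp))
      (by simpa [s0, s5, m0, m5] using gen e6m1 e6m6 (by simp))
  · exact hpair ⟨2, by decide⟩ ⟨4, by decide⟩ h24 (by simpa [s2, s4] using gen e6p3 e6p5 (by simp))
      (by simpa [s2, s4, m2, m4] using gen e6m3 e6m5 (by simp))
  · exact hsingle ⟨3, by decide⟩ (by simpa [s3] using gen1 e6p4 (by simp))
      (by simpa [s3, m3] using gen1 e6m4 (by simp))
  · exact hsingle ⟨1, by decide⟩ (by simpa [s1] using gen1 e6p2 (by simp))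
      (by simpa [s1, m1] using gen1 e6m2 (by simp))

theorem gGL_mem : ∀ i, i < 72 → gGL w i ∈ twistedE6 K (2 ^ 1) := by
  have hpos : ∀ i, 36 ≤ i → i < 72 → gGL w i ∈ twistedE6 K (2 ^ 1) := fun i h36 hi => by
    have hU : gGL w i ∈ (coreE6 K).Ucl {k | chevE6.IsPosRoot k} :=
      gGL_mem_of w (fun t => (coreE6 K).xGL_mem_Ucl (S := {k | chevE6.IsPosRoot k}) (rt_pos h36 hi).1 t)
        (fun t => (coreE6 K).xGL_mem_Ucl (S := {k | chevE6.IsPosRoot k}) (rt_pos h36 hi).2 t)
    exact (gensE6 K hn (by norm_num)).fixU_pos.1 (Subgroup.mem_inf.2 ⟨hU,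
      (frobE6 K 2 1).mem_fixedSub.2 ⟨(coreE6 K).wordGL_mem_group _, act_gGL hw ⟨i, hi⟩⟩⟩)
  suffices h : ∀ m, ∀ i, 36 ≤ i + m → i < 72 → gGL w i ∈ twistedE6 K (2 ^ 1) from
    fun i hi => h 36 i (by omega) hi
  intro m
  induction m with
  | zero => exact fun i h hi => hpos i (by omega) hi
  | succ m ih =>
    intro i h hi
    by_cases h36 : 36 ≤ i
    · exact hpos i h36 hi
    obtain ⟨k, (hk : i < refl k i)⟩ := refl_up ⟨i, by omega⟩
    obtain ⟨hlt, -, -⟩ := refl_check k ⟨i, hi⟩
    have hm := ih (refl k i) (by omega) hlt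
    rw [← conj_refl w k hi] at hm
    simpa [mul_assoc] using mul_mem (mul_mem (inv_mem (nK_mem k)) hm) (nK_mem k)

/-- The generators in the group. -/
noncomputable def gx (i : ℕ) : ↥(twistedE6 K (2 ^ 1)) :=
  if h : i < 72 then ⟨gGL w i, gGL_mem hw hn i h⟩ else 1

theorem coe_gx {i : ℕ} (h : i < 72) : (gx hw hn i : GL chevE6.Idx K) = gGL w i := by
  simp [gx, h]

theorem coe_ev_gx {l : List ℕ} (h : ∀ a ∈ l, a < 72) :
    ((ev (gx hw hn) l : ↥(twistedE6 K (2 ^ 1))) : GL chevE6.Idx K) = ev (gGL w) l :=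
  (map_ev (twistedE6 K (2 ^ 1)).subtype (gx hw hn) l).trans
    (ev_congr fun a ha => coe_gx hw hn (h a ha))

theorem sat_gx : Sat (List.range 72) (gx hw hn) (1, 1) := by
  have h := sat_gGL hw
  refine ⟨⟨one_mul 1, one_mul 1, rfl, fun a _ => by simp, fun a _ => by simp⟩,
    fun a ha => Subtype.ext ?_, fun a ha b hb hok => Subtype.ext ?_⟩
  · rw [Subgroup.coe_mul, coe_gx hw hn (List.mem_range.1 ha)]
    exact h.sq a ha
  · rw [cz_one, mul_one, Subgroup.coe_mul, Subgroup.coe_mul, Subgroup.coe_mul,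
      coe_ev_gx hw hn (tab_facts hok).2.2.1, coe_gx hw hn (List.mem_range.1 ha),
      coe_gx hw hn (List.mem_range.1 hb)]
    have e := h.swap a ha b hb hok
    rwa [cz_one, mul_one] at e

end field

theorem exists_omega {K : Type*} [Field K] [Fintype K] [CharP K 2] (hK : Fintype.card K = 4) :
    ∃ w : K, w * w = w + 1 := by
  classical
  obtain ⟨u, hu⟩ : ∃ u : Kˣ, u ≠ 1 := by
    refine Fintype.exists_ne_of_one_lt_card ?_ 1
    rw [Fintype.card_units, hK]; norm_num
  refine ⟨u, ?_⟩
  have h3 : (u : K) ^ 3 = 1 := by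
    have h := FiniteField.pow_card_sub_one_eq_one (u : K) u.ne_zero
    rwa [hK] at h
  have h0 : ((u : K) - 1) * ((u : K) * u + u + 1) = 0 := by linear_combination h3
  rcases mul_eq_zero.1 h0 with h | h
  · exact absurd (Units.ext (sub_eq_zero.1 h) : u = 1) hu
  · rw [add_assoc] at h
    exact CharTwo.add_eq_zero.1 h

end CfsgLib.Schur.E6Two
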