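import Cfsg.Agent.Lib.Schur.E6Two.Rules
import Mathlib.GroupTheory.SemidirectProduct
import Mathlib.Data.ZMod.Basic
import Mathlib.Algebra.Group.TypeTags.Finite

/-!
A group in which the twisted rules on the positive indices have distinct ordered products: it is
built by adjoining one index at a time as an automorphism of order two.
-/

set_option autoImplicit false
set_option maxRecDepth 100000

namespace CfsgLib.Schur.E6Two

/-- The image of a root element under conjugation by the element of `k`. -/
def conjW (k a : ℕ) : List ℕ := a :: tab k a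

/-- The checks for adjoining `k` to `T`. -/
def stepOK (k : ℕ) (T : List ℕ) : Bool :=
  !(T.contains k) && imgOK (conjW k) (twist k) T && T.all fun a =>
    same [a] ((conjW k a).flatMap (conjW k))
      ((wordExp (twist k) (conjW k a)).1 + (twist k a).1,
        (wordExp (twist k) (conjW k a)).2 + (twist k a).2) &&
    same (conjW k a) (a :: (tab a k).flatMap (conjW k))
      ((wordExp (twist k) (tab a k)).1 + (twist a k).1 + (twist k a).1,
        (wordExp (twist k) (tab a k)).2 + (twist a k).2 + (twist k a).2)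

/-- All the checks. -/
def allOK : List ℕ → Bool
  | [] => true
  | k :: T => stepOK k T && allOK T

theorem allOK_pos : allOK posList = true := by decide +kernel

theorem good_pos : Good posList := by decide +kernel

theorem gen_two : (∀ z : Multiplicative (ZMod 2), z = 1 ∨ z = Multiplicative.ofAdd 1) ∧
    Multiplicative.ofAdd (1 : ZMod 2) ≠ 1 ∧
    Multiplicative.ofAdd (1 : ZMod 2) * Multiplicative.ofAdd 1 = 1 := by decide

variable {K : Type} [Group K]

/-- The action of a group of order two by an involutive automorphism. -/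
def twoAct (α : MulAut K) (h : α * α = 1) : Multiplicative (ZMod 2) →* MulAut K where
  toFun x := if x = 1 then 1 else α
  map_one' := if_pos rfl
  map_mul' x y := by
    obtain ⟨hx, h1, h2⟩ := gen_two
    rcases hx x with rfl | rfl <;> rcases hx y with rfl | rfl <;> simp [h1, h2, h]

theorem twoAct_gen (α : MulAut K) (h : α * α = 1) :
    twoAct α h (Multiplicative.ofAdd 1) = α :=
  if_neg (t := (1 : MulAut K)) (e := α) gen_two.2.1

theorem gens_top {H : Type*} [Group H] {L : List ℕ} {y : ℕ → H} {c : H × H}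
    (P : Subgroup ↥(gens L y c)) (h1 : ⟨c.1, fst_mem_gens L y c⟩ ∈ P)
    (h2 : ⟨c.2, snd_mem_gens L y c⟩ ∈ P)
    (hy : ∀ a (ha : a ∈ L), ⟨y a, mem_gens y c ha⟩ ∈ P) (x : ↥(gens L y c)) : x ∈ P := by
  have hle : gens L y c ≤ P.map (gens L y c).subtype := by
    refine (Subgroup.closure_le _).2 ?_
    rintro z ((rfl | rfl) | ⟨a, ha, rfl⟩)
    · exact ⟨_, h1, rfl⟩
    · exact ⟨_, h2, rfl⟩
    · exact ⟨_, hy a ha, rfl⟩
  obtain ⟨w, hw, e⟩ := hle x.2
  exact Subtype.ext e ▸ hw

theorem bits_cases : ∀ ε ε' : Bool × Bool,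
    ((if (bits ε).1 % 2 = 1 then Multiplicative.ofAdd (1 : ZMod 2) else 1),
      (if (bits ε).2 % 2 = 1 then Multiplicative.ofAdd (1 : ZMod 2) else 1)) =
    ((if (bits ε').1 % 2 = 1 then Multiplicative.ofAdd (1 : ZMod 2) else 1),
      (if (bits ε').2 % 2 = 1 then Multiplicative.ofAdd (1 : ZMod 2) else 1)) → ε = ε' := by
  decide

/-- The model. -/
theorem exists_model : ∀ (L : List ℕ), Good L → allOK L = true →
    ∃ (H : Type) (_ : Group H) (_ : Finite H) (y : ℕ → H) (c : H × H), Sat L y c ∧ Inj L y c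
  | [], _, _ => by
    obtain ⟨-, h1, h2⟩ := gen_two
    refine ⟨Multiplicative (ZMod 2) × Multiplicative (ZMod 2), inferInstance, inferInstance,
      fun _ => 1, ((Multiplicative.ofAdd 1, 1), (1, Multiplicative.ofAdd 1)),
      ⟨⟨Prod.ext h2 (one_mul 1), Prod.ext (one_mul 1) h2, mul_comm _ _, by simp, by simp⟩,
        by simp, by simp⟩, ?_⟩
    intro l l' hl hl' ε ε' h
    rw [List.sublist_nil] at hl hl'
    subst hl hl'
    refine ⟨bits_cases ε ε' ?_, rfl⟩
    rcases ε with ⟨_ | _, _ | _⟩ <;> rcases ε' with ⟨_ | _, _ | _⟩ <;>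
      simp_all [bits, cz, Prod.ext_iff]
  | k :: T, hL, hOK => by
    rw [allOK, Bool.and_eq_true] at hOK
    obtain ⟨H, _, _, y, c, hS, hI⟩ := exists_model T hL.2 hOK.2
    have hstep := hOK.1
    simp only [stepOK, Bool.and_eq_true, List.all_eq_true,
      Bool.not_eq_eq_eq_not, Bool.not_true, List.contains_eq_mem, decide_eq_false_iff_not] at hstep
    obtain ⟨⟨hkT, himg⟩, hstep⟩ := hstep
    have hC := hS.cen
    have hWT : ∀ a ∈ T, ∀ b ∈ conjW k a, b ∈ T := fun a ha b hb => by
      rcases List.mem_cons.1 hb with rfl | hb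
      · exact ha
      · exact (hL.1 a ha).2 b hb
    have hWW : ∀ w : List ℕ, (∀ a ∈ w, a ∈ T) → ∀ b ∈ w.flatMap (conjW k), b ∈ T :=
      fun w hw b hb => by
      obtain ⟨d, hd, hb⟩ := List.mem_flatMap.1 hb
      exact hWT d (hw d hd) b hb
    have htabT : ∀ a ∈ T, ∀ m ∈ tab a k, m ∈ T := fun a ha m hm =>
      (hL.1 a ha).2 m ((tab_facts (hL.1 a ha).1).2.1 ▸ hm)
    let y' : ℕ → H := fun a => ev y (conjW k a) * cz c (twist k a)
    have hy' : ∀ w : List ℕ, (∀ a ∈ w, a ∈ T) →
        ev y' w = ev y (w.flatMap (conjW k)) * cz c (wordExp (twist k) w) := fun w hw =>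
      word_eval hC fun a ha => ⟨rfl, hWT a (hw a ha)⟩
    have hS' : Sat T y' c := sat_of_imgOK hL.2 hS hL.2 hWT himg
    obtain ⟨φ, hφ, hφ1, hφ2⟩ := universal hL.2 hS hI hS'
    have hmem : ∀ x : ↥(gens T y c), φ x ∈ gens T y c := by
      refine fun x => gens_top ((gens T y c).comap φ) ?_ ?_ (fun a ha => ?_) x
      · show φ _ ∈ gens T y c
        rw [hφ1]
        exact fst_mem_gens T y c
      · show φ _ ∈ gens T y c
        rw [hφ2]
        exact snd_mem_gens T y c
      · show φ _ ∈ gens T y c
        rw [hφ a ha]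
        exact mul_mem (ev_mem_gens y c (hWT a ha)) (cz_mem_gens T y c _)
    let ψ : ↥(gens T y c) →* ↥(gens T y c) := φ.codRestrict _ hmem
    let gy : ℕ → ↥(gens T y c) := fun a =>
      if ha : a ∈ T then ⟨y a, mem_gens y c ha⟩ else 1
    let gc : ↥(gens T y c) × ↥(gens T y c) :=
      (⟨c.1, fst_mem_gens T y c⟩, ⟨c.2, snd_mem_gens T y c⟩)
    have hgy : ∀ a ∈ T, ((gy a : ↥(gens T y c)) : H) = y a := fun a ha => by simp [gy, ha]
    have hev : ∀ w : List ℕ, (∀ a ∈ w, a ∈ T) → ((ev gy w : ↥(gens T y c)) : H) = ev y w :=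
      fun w hw => (map_ev (gens T y c).subtype gy w).trans (ev_congr fun a ha => hgy a (hw a ha))
    have hcz : ∀ e, ((cz gc e : ↥(gens T y c)) : H) = cz c e := fun e =>
      map_cz (gens T y c).subtype gc e
    have hψcz : ∀ e, ψ (cz gc e) = cz gc e := fun e => by
      rw [map_cz]
      exact congrArg (fun p => cz p e) (Prod.ext (Subtype.ext hφ1) (Subtype.ext hφ2))
    have hψy : ∀ a ∈ T, ((ψ (gy a) : ↥(gens T y c)) : H) = y' a := fun a ha => by
      show φ (gy a) = y' a
      simp only [gy, dif_pos ha]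
      exact hφ a ha
    have hψev : ∀ w : List ℕ, (∀ a ∈ w, a ∈ T) → ((ψ (ev gy w) : ↥(gens T y c)) : H) =
        ev y (w.flatMap (conjW k)) * cz c (wordExp (twist k) w) := fun w hw => by
      rw [← hy' w hw]
      exact (map_ev ((gens T y c).subtype.comp ψ) gy w).trans (ev_congr fun a ha => hψy a (hw a ha))
    have e0 : ∀ a ∈ T, ψ (gy a) = ev gy (conjW k a) * cz gc (twist k a) := fun a ha => Subtype.ext (by
      rw [hψy a ha, Subgroup.coe_mul, hev _ (hWT a ha), hcz])
    have hψψ : ∀ x, ψ (ψ x) = x := by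
      refine fun x => gens_top ((ψ.comp ψ).eqLocus (MonoidHom.id _)) ?_ ?_ (fun a ha => ?_) x
      · show ψ (ψ gc.1) = gc.1
        rw [show ψ gc.1 = gc.1 from Subtype.ext hφ1, show ψ gc.1 = gc.1 from Subtype.ext hφ1]
      · show ψ (ψ gc.2) = gc.2
        rw [show ψ gc.2 = gc.2 from Subtype.ext hφ2, show ψ gc.2 = gc.2 from Subtype.ext hφ2]
      · rw [show (⟨y a, mem_gens y c ha⟩ : ↥(gens T y c)) = gy a from Subtype.ext (hgy a ha).symm]
        show ψ (ψ (gy a)) = gy a
        have hW := hWT a ha
        refine Subtype.ext ?_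
        rw [e0 a ha, map_mul, hψcz, Subgroup.coe_mul, hψev _ hW, hcz]
        have h := same_sound hL.2 hS (w := [a]) (w' := (conjW k a).flatMap (conjW k))
          (e := wordExp (twist k) (conjW k a) + twist k a)
          (fun d hd => by rw [List.mem_singleton] at hd; exact hd ▸ ha)
          (hWW _ hW) (hstep a ha).1
        rw [← h, mul_assoc, mul_assoc, ← hC.cz_add, ← hC.cz_add, hgy a ha,
          hC.cz_parity (e := 0) (by simp only [Prod.fst_add, Prod.fst_zero]; omega)
            (by simp only [Prod.snd_add, Prod.snd_zero]; omega)]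
        simp [ev]
    let α : MulAut ↥(gens T y c) :=
      { toFun := ψ, invFun := ψ, left_inv := hψψ, right_inv := hψψ, map_mul' := map_mul ψ }
    have hαα : α * α = 1 := MulEquiv.ext hψψ
    let H2 := ↥(gens T y c) ⋊[twoAct α hαα] Multiplicative (ZMod 2)
    let t : H2 := SemidirectProduct.inr (Multiplicative.ofAdd 1)
    let y2 : ℕ → H2 := fun a => if a = k then t else SemidirectProduct.inl (gy a)
    let c2 : H2 × H2 := (SemidirectProduct.inl gc.1, SemidirectProduct.inl gc.2)
    have hcz2 : ∀ e, cz c2 e = SemidirectProduct.inl (cz gc e) := fun e =>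
      (map_cz SemidirectProduct.inl gc e).symm
    have htt : t * t = 1 := by rw [← map_mul, gen_two.2.2, map_one]
    have ht : ∀ x, t * SemidirectProduct.inl x = SemidirectProduct.inl (ψ x) * t := fun x => by
      show t * SemidirectProduct.inl x = SemidirectProduct.inl (α x) * t
      have h := SemidirectProduct.inl_aut (φ := twoAct α hαα) (Multiplicative.ofAdd (1 : ZMod 2)) x
      rw [twoAct_gen] at h
      rw [h, map_inv, inv_mul_cancel_right]
    have hy2 : ∀ a ∈ T, y2 a = SemidirectProduct.inl (gy a) := fun a ha =>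
      if_neg fun e : a = k => hkT (e ▸ ha)
    have hy2k : y2 k = t := if_pos rfl
    have hev2 : ∀ w : List ℕ, (∀ a ∈ w, a ∈ T) → ev y2 w = SemidirectProduct.inl (ev gy w) :=
      fun w hw => by
        rw [map_ev SemidirectProduct.inl gy w]
        exact ev_congr fun a ha => hy2 a (hw a ha)
    have hCg : Central T gy gc := ⟨Subtype.ext hC.sq1, Subtype.ext hC.sq2, Subtype.ext hC.comm12,
      fun a ha => Subtype.ext (by simpa [hgy a ha, gc] using hC.comm1 a ha),
      fun a ha => Subtype.ext (by simpa [hgy a ha, gc] using hC.comm2 a ha)⟩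
    have hSg : Sat T gy gc := by
      refine ⟨hCg, fun a ha => Subtype.ext ?_, fun a ha b hb hok => Subtype.ext ?_⟩
      · simpa [hgy a ha] using hS.sq a ha
      · rw [Subgroup.coe_mul, Subgroup.coe_mul, Subgroup.coe_mul, Subgroup.coe_mul,
          hev _ (hL.2.closed_ok ha hb hok), hcz, hgy a ha, hgy b hb]
        exact hS.swap a ha b hb hok
    refine ⟨H2, inferInstance, Finite.of_equiv _ SemidirectProduct.equivProd.symm, y2, c2,
      ⟨⟨?_, ?_, ?_, fun a ha => ?_, fun a ha => ?_⟩, fun a ha => ?_, fun a ha b hb hok => ?_⟩, ?_⟩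
    · rw [← map_mul, hCg.sq1, map_one]
    · rw [← map_mul, hCg.sq2, map_one]
    · rw [← map_mul, hCg.comm12, map_mul]
    · rcases List.mem_cons.1 ha with rfl | ha
      · rw [hy2k, ht, show ψ gc.1 = gc.1 from Subtype.ext hφ1]
      · rw [hy2 a ha, ← map_mul, ← map_mul, hCg.comm1 a ha]
    · rcases List.mem_cons.1 ha with rfl | ha
      · rw [hy2k, ht, show ψ gc.2 = gc.2 from Subtype.ext hφ2]
      · rw [hy2 a ha, ← map_mul, ← map_mul, hCg.comm2 a ha]
    · rcases List.mem_cons.1 ha with rfl | ha
      · rw [hy2k, htt]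
      · rw [hy2 a ha, ← map_mul, hSg.sq a ha, map_one]
    · rcases List.mem_cons.1 ha with h1 | h1 <;> rcases List.mem_cons.1 hb with h2 | h2
      · subst h1 h2; exact absurd rfl (ok_ne hok)
      · subst h1
        have htab := htabT b h2
        rw [hy2k, hy2 b h2, hev2 _ (fun m hm => htab m hm), hcz2, ht, mul_assoc, mul_assoc,
          ← map_mul, ht, ← mul_assoc, ← map_mul]
        congr 2
        refine Subtype.ext ?_
        rw [hψy b h2, map_mul, hψcz, Subgroup.coe_mul, Subgroup.coe_mul, hψev _ htab, hcz, hgy b h2]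
        have h := same_sound hL.2 hS (w := conjW a b) (w' := b :: (tab b a).flatMap (conjW a))
          (e := wordExp (twist a) (tab b a) + twist b a + twist a b) (hWT b h2)
          (fun d hd => (List.mem_cons.1 hd).elim (fun e => e ▸ h2) (hWW _ htab d))
          (hstep b h2).2
        rw [ev_cons] at h
        show ev y (conjW a b) * cz c (twist a b) = y b * (ev y ((tab b a).flatMap (conjW a)) *
          cz c (wordExp (twist a) (tab b a)) * cz c (twist b a))
        rw [← mul_assoc, ← mul_assoc, ← h]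
        simp only [mul_assoc, ← hC.cz_add]
        congr 1
        exact hC.cz_parity (by simp only [Prod.fst_add]; omega) (by simp only [Prod.snd_add]; omega)
      · subst h2
        have htab := (hL.1 a h1).2
        rw [hy2k, hy2 a h1, hev2 _ htab, hcz2, mul_assoc t, mul_assoc t, ← map_mul, ← map_mul, ht]
        congr 2
        rw [map_mul, map_mul, hψcz]
        conv_lhs => rw [← hψψ (gy a), e0 a h1, map_mul, hψcz]
        rw [show conjW b a = a :: tab b a from rfl, ev_cons, map_mul]
      · rw [hy2 a h1, hy2 b h2, hev2 _ (hL.2.closed_ok h1 h2 hok), hcz2]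
        simp only [← map_mul]
        rw [hSg.swap a h1 b h2 hok]
    · have gI : Inj T gy gc := fun l l' hl hl' ε ε' h => hI l l' hl hl' ε ε' (by
        have := congrArg Subtype.val h
        rw [Subgroup.coe_mul, Subgroup.coe_mul, hcz, hcz, hev _ (fun a ha => hl.subset ha),
          hev _ (fun a ha => hl'.subset ha)] at this
        exact this)
      have hsplit : ∀ l : List ℕ, l.Sublist (k :: T) → ∀ ε : Bool × Bool, ∃ (u : List ℕ) (b : Bool),
          u.Sublist T ∧ l = (if b then k :: u else u) ∧
          cz c2 (bits ε) * ev y2 l =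
            ⟨cz gc (bits ε) * (if b then ψ (ev gy u) else ev gy u),
              if b then Multiplicative.ofAdd 1 else 1⟩ := by
        intro l hl ε
        cases hl with
        | cons _ hu =>
          refine ⟨l, false, hu, rfl, ?_⟩
          rw [hcz2, hev2 _ (fun a ha => hu.subset ha), ← map_mul]
          rfl
        | cons_cons _ hu =>
          rename_i u
          refine ⟨u, true, hu, rfl, ?_⟩
          rw [ev_cons, hy2k, hev2 _ (fun a ha => hu.subset ha), hcz2, ht, ← mul_assoc, ← map_mul]
          exact SemidirectProduct.inl_left_mul_inr_right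
            (⟨cz gc (bits ε) * ψ (ev gy u), Multiplicative.ofAdd 1⟩ : H2)
      intro l l' hl hl' ε ε' h
      obtain ⟨u, b, hu, rfl, e1⟩ := hsplit l hl ε
      obtain ⟨u', b', hu', rfl, e2⟩ := hsplit l' hl' ε'
      rw [e1, e2, SemidirectProduct.ext_iff] at h
      obtain ⟨hl1, hr1⟩ := h
      obtain rfl : b = b' := by
        cases b <;> cases b'
        · rfl
        · exact absurd (hr1 : (1 : Multiplicative (ZMod 2)) = Multiplicative.ofAdd 1) gen_two.2.1.symm
        · exact absurd (hr1 : Multiplicative.ofAdd (1 : ZMod 2) = 1) gen_two.2.1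
        · rfl
      have h3 : cz gc (bits ε) * ev gy u = cz gc (bits ε') * ev gy u' := by
        cases b
        · exact hl1
        · have h4 := congrArg ψ hl1
          simpa only [map_mul, hψcz, hψψ, if_true] using h4
      obtain ⟨rfl, rfl⟩ := gI u u' hu hu' ε ε' h3
      exact ⟨rfl, rfl⟩

end CfsgLib.Schur.E6Two
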