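import Cfsg.Agent.Lib.Schur.E6Two.GroupGens
import Cfsg.Agent.Lib.Schur.E6Two.Model
import Cfsg.Agent.Lib.TwistMult.E6Tables

/-!
The unipotent subgroup of ²E₆(2) consists of the ordered products of the positive generators, each
once, and the twisted Weyl group permutes the rules.
-/

set_option autoImplicit false
set_option maxRecDepth 100000

namespace CfsgLib.Schur.E6Two

open Cfsg.Lie CfsgLib.ChevStr CfsgLib.Twisted CfsgLib.TwistMult
open scoped MatrixGroups

theorem level_check : ∀ i < 24, (List.range' 36 36).any (fun j =>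
    Nat.beq (rt j) (rep chE6 i) && (lev chE6 i).contains (rt j) &&
      (lev chE6 i).contains (rt (rho j)) && Nat.ble 36 (rho j) &&
      (longE6.contains i == Nat.beq (rho j) j)) = true := by
  decide +kernel

/-- A sublist of a list without repetitions is a filter of it. -/
theorem sublist_eq_filter {l L : List ℕ} (h : l.Sublist L) (hnd : L.Nodup) :
    L.filter (fun a => decide (a ∈ l)) = l := by
  induction h with
  | slnil => rfl
  | @cons l L a h ih =>
    have hal : a ∉ l := fun ha => (List.nodup_cons.1 hnd).1 (h.subset ha)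
    rw [List.filter_cons_of_neg (by simpa using hal)]
    exact ih (List.nodup_cons.1 hnd).2
  | @cons_cons l L a h ih =>
    rw [List.filter_cons_of_pos (by simp)]
    congr 1
    refine (List.filter_congr fun x hx => ?_).trans (ih (List.nodup_cons.1 hnd).2)
    have : x ≠ a := fun e => (List.nodup_cons.1 hnd).1 (e ▸ hx)
    simp [this]

section field

variable {K : Type*} [Field K] [CharP K 2] {w : K} (hw : w * w = w + 1) [Fintype K]
  (hn : Fintype.card K = (2 ^ 1) * (2 ^ 1))

include hw hn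

theorem ev_mem_U1 {l : List ℕ} (hl : ∀ a ∈ l, a ∈ posList) :
    ev (gGL w) l ∈ chevE6.posUnipotent K ⊓ twistedE6 K (2 ^ 1) := by
  refine Subgroup.list_prod_mem _ fun x hx => ?_
  obtain ⟨a, ha, rfl⟩ := List.mem_map.1 hx
  obtain ⟨h36, h72⟩ := posList_mem.1 (hl a ha)
  refine Subgroup.mem_inf.2 ⟨?_, gGL_mem hw hn a h72⟩
  exact gGL_mem_of w (fun t => (coreE6 K).xGL_mem_posUnipotent (rt_pos h36 h72).1 t)
    (fun t => (coreE6 K).xGL_mem_posUnipotent (rt_pos h36 h72).2 t)

theorem fixU_le_gens : (frobE6 K 2 1).fixU (listSet (lev chE6 0)) ≤ gens posList (gGL w) (1, 1) := by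
  have hG : gens posList (gGL w) (1, 1) ≤ (frobE6 K 2 1).fixedSub := by
    refine (Subgroup.closure_le _).2 ?_
    rintro z ((rfl | rfl) | ⟨a, ha, rfl⟩)
    · exact one_mem _
    · exact one_mem _
    · exact (frobE6 K 2 1).mem_fixedSub.2 ⟨(coreE6 K).wordGL_mem_group _,
        act_gGL hw ⟨a, (posList_mem.1 ha).2⟩⟩
  have hall : ∀ t : K, t = 0 ∨ t = 1 ∨ t = w ∨ t = w + 1 := by
    classical
    intro t
    have hw0 : w ≠ 0 := fun e => by simp [e] at hw
    have hw1 : w ≠ 1 := fun e => by simp [e, CharTwo.add_self_eq_zero] at hw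
    have hw2 : w + 1 ≠ 0 := fun e => hw1 (by rw [CharTwo.add_eq_zero] at e; exact e)
    by_contra h
    simp only [not_or] at h
    have : ({0, 1, w, w + 1, t} : Finset K).card ≤ 4 :=
      (Finset.card_le_univ _).trans (by rw [hn]; norm_num)
    rw [Finset.card_insert_of_notMem, Finset.card_insert_of_notMem, Finset.card_insert_of_notMem,
      Finset.card_pair] at this
    · omega
    · exact Ne.symm h.2.2.2
    · simp [Ne.symm h.2.2.1]
    · simp [Ne.symm hw1, Ne.symm h.2.1, hw0]
    · simp [Ne.symm hw0, Ne.symm hw2, Ne.symm h.1]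
  suffices h : ∀ m i, 24 ≤ i + m →
      (frobE6 K 2 1).fixU (listSet (lev chE6 i)) ≤ gens posList (gGL w) (1, 1) from h 24 0 le_rfl
  intro m
  induction m with
  | zero =>
    intro i hi
    rw [lev_of_le (by rw [chE6_length]; omega), listSet_nil, Frob.fixU_empty]
    exact bot_le
  | succ m ih =>
    intro i hi
    by_cases h24 : 24 ≤ i
    · rw [lev_of_le (by rw [chE6_length]; exact h24), listSet_nil, Frob.fixU_empty]
      exact bot_le
    have hi' : i < chE6.length := by rw [chE6_length]; omega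
    have hc := ((chain_spec (C := coreE6 K) chE6_check).2 i hi').1
    have hlev := level_at (C := coreE6 K) chE6_check hi'
    have hcl := lev_closed (C := coreE6 K) chE6_check i
    obtain ⟨-, hm, hm', -, -⟩ := Frob.of_levelCheck hc
    obtain ⟨j, hj, hfacts⟩ := List.any_eq_true.1 (level_check i (by omega))
    simp only [Bool.and_eq_true, beq_iff_eq, List.contains_iff_mem, Nat.ble_eq] at hfacts
    obtain ⟨⟨⟨⟨hrep, hmem⟩, hmem'⟩, hρj⟩, hlong⟩ := hfacts
    replace hrep := Nat.eq_of_beq_eq_true hrep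
    have hj' : 36 ≤ j ∧ j < 72 := posList_mem.1 hj
    have hρj' : rho j < 72 := rho_lt hj'.2
    have hg1 : gGL w j ∈ gens posList (gGL w) (1, 1) := mem_gens _ _ hj
    have hg2 : gGL w (rho j) ∈ gens posList (gGL w) (1, 1) :=
      mem_gens _ _ (posList_mem.2 ⟨hρj, hρj'⟩)
    have hr0 : rep chE6 i < chevE6.nroots := hrep ▸ rt_lt hj'.2
    have hU : ∀ {r : ℕ} (t : K), r ∈ lev chE6 i →
        (coreE6 K).xGL r t ∈ (coreE6 K).Ucl (listSet (lev chE6 i)) := fun t h =>
      (coreE6 K).xGL_mem_Ucl (S := listSet (lev chE6 i)) h t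
    refine ((frobE6 K 2 1).level_list (root := e6Sym.root) (fun _ => rfl)
      (r := ⟨rep chE6 i, hr0⟩) hc hcl
      {t : K | i ∈ longE6 → t * t = t} (fun g hg hl => ?_) _ hG (fun t ht => ?_)
      (ih (i + 1) (by omega))).1
    · obtain ⟨-, hr, -⟩ := fixed_layers i hl
      obtain ⟨-, -, hroot, hsign⟩ := fixedRoots _ hr
      have h := (frobE6 K 2 1).coord_fixed (root := e6Sym.root) (fun _ => rfl)
        (r := ⟨rep chE6 i, hr0⟩) hc hcl hroot hg
      have h' : (e6Sym.sign (rep chE6 i) : K) *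
          (coreE6 K).coord (listSet (lev chE6 i)) (rep chE6 i) g ^ 2 ^ 1 =
          (coreE6 K).coord (listSet (lev chE6 i)) (rep chE6 i) g := h
      rw [hsign, Int.cast_one, one_mul, pow_one, sq] at h'
      exact h'
    · show ∃ x ∈ _, x ∈ _ ∧ (coreE6 K).coord (listSet (lev chE6 i)) (rep chE6 i) x = t
      rcases eq_or_ne t 0 with rfl | ht0
      · exact ⟨1, one_mem _, one_mem _, (coreE6 K).coord_of_mem hlev hm hm' (one_mem _)⟩
      by_cases hρ : rho j = j
      · have hl : i ∈ longE6 := List.contains_iff_mem.1 (by rw [hlong, hρ, Nat.beq_refl])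
        have ht1 : t = 1 := mul_right_cancel₀ ht0 ((ht hl).trans (one_mul t).symm)
        subst ht1
        refine ⟨gGL w j, ?_, hg1, ?_⟩ <;> rw [gGL_fixed w hρ]
        · exact hU 1 hmem
        · rw [hrep]
          exact (coreE6 K).coord_xGL_self hlev hm hm' 1
      · have hne : rt (rho j) ≠ rep chE6 i := hrep ▸ (pair_check ⟨j, hj'.2⟩ hρ).1.symm
        have hρ2 : rho (rho j) ≠ rho j := by rw [rho_rho hj'.2]; exact Ne.symm hρ
        have hco : ∀ u : K, (coreE6 K).coord (listSet (lev chE6 i)) (rep chE6 i)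
            ((coreE6 K).xGL (rt (rho j)) u) = 0 := fun u =>
          (coreE6 K).coord_of_mem hlev hm hm'
            ((coreE6 K).xGL_mem_Ucl (S := listSet (lev chE6 i) \ {rep chE6 i}) ⟨hmem', hne⟩ u)
        have hco' : ∀ u : K, (coreE6 K).coord (listSet (lev chE6 i)) (rep chE6 i)
            ((coreE6 K).xGL (rt j) u) = u := fun u => by
          rw [hrep]; exact (coreE6 K).coord_xGL_self hlev hm hm' u
        have hm1 : gGL w j ∈ (coreE6 K).Ucl (listSet (lev chE6 i)) :=
          gGL_mem_of w (fun t => hU t hmem) (fun t => hU t hmem')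
        have hm2 : gGL w (rho j) ∈ (coreE6 K).Ucl (listSet (lev chE6 i)) := by
          refine gGL_mem_of w (fun t => hU t hmem') (fun t => ?_)
          rw [rho_rho hj'.2]; exact hU t hmem
        have c1 : (coreE6 K).coord (listSet (lev chE6 i)) (rep chE6 i) (gGL w j) = w := by
          rw [gGL_pair w hρ, (coreE6 K).coord_mul hlev hm hm' (hU _ hmem) (hU _ hmem'), hco, hco',
            add_zero]
        have c2 : (coreE6 K).coord (listSet (lev chE6 i)) (rep chE6 i) (gGL w (rho j)) = w + 1 := by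
          rw [gGL_pair w hρ2, rho_rho hj'.2,
            (coreE6 K).coord_mul hlev hm hm' (hU _ hmem') (hU _ hmem), hco, hco', zero_add]
        rcases (hall t).resolve_left ht0 with rfl | rfl | rfl
        · refine ⟨gGL w j * gGL w (rho j), mul_mem hm1 hm2, mul_mem hg1 hg2, ?_⟩
          rw [(coreE6 K).coord_mul hlev hm hm' hm1 hm2, c1, c2, ← add_assoc,
            CharTwo.add_self_eq_zero, zero_add]
        · exact ⟨_, hm1, hg1, c1⟩
        · exact ⟨_, hm2, hg2, c2⟩

theorem exists_ev {g : GL chevE6.Idx K}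
    (hg : g ∈ chevE6.posUnipotent K ⊓ twistedE6 K (2 ^ 1)) :
    ∃ l : List ℕ, l.Sublist posList ∧ ev (gGL w) l = g := by
  have hm : g ∈ (frobE6 K 2 1).fixU (listSet (lev chE6 0)) := by
    refine Subgroup.mem_inf.2 ⟨?_, le_fixedE6 K hn hg.2⟩
    rw [listSet_zero (C := coreE6 K) chE6_check, ← (coreE6 K).posUnipotent_eq]
    exact hg.1
  obtain ⟨l, hl, ε, rfl⟩ := exists_nf good_pos (sat_pos hw) (fixU_le_gens hw hn hm)
  exact ⟨l, hl, by rw [cz_one, one_mul]⟩

omit hw in
theorem card_U1_two : Nat.card ↥(chevE6.posUnipotent K ⊓ twistedE6 K (2 ^ 1)) = 2 ^ 36 := by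
  refine Nat.pow_left_injective (show 2 ≠ 0 by norm_num) ?_
  show _ ^ 2 = _ ^ 2
  have hN : Set.ncard {r | chevE6.IsPosRoot r} = 36 := ncard_isPosRoot (by decide +kernel)
  rw [(gensE6 K hn (by norm_num)).card_U1, hN, Nat.card_eq_fintype_card, hn]
  ring

theorem ev_injective {l l' : List ℕ} (hl : l.Sublist posList) (hl' : l'.Sublist posList)
    (h : ev (gGL w) l = ev (gGL w) l') : l = l' := by
  classical
  have hnd : posList.Nodup := List.nodup_range'
  set U := chevE6.posUnipotent K ⊓ twistedE6 K (2 ^ 1) with hU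
  let f : posList.toFinset.powerset → U := fun S =>
    ⟨ev (gGL w) (posList.filter fun a => decide (a ∈ S.1)),
      ev_mem_U1 hw hn fun a ha => (List.mem_filter.1 ha).1⟩
  have hsurj : Function.Surjective f := by
    rintro ⟨g, hg⟩
    obtain ⟨m, hm, rfl⟩ := exists_ev hw hn hg
    refine ⟨⟨m.toFinset, Finset.mem_powerset.2 fun a ha => List.mem_toFinset.2
      (hm.subset (List.mem_toFinset.1 ha))⟩, Subtype.ext (congrArg (ev (gGL w)) ?_)⟩
    exact (List.filter_congr fun a _ => by simp).trans (sublist_eq_filter hm hnd)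
  have hcard : Nat.card posList.toFinset.powerset = Nat.card U := by
    rw [hU, card_U1_two hn, Nat.card_eq_finsetCard, Finset.card_powerset,
      List.toFinset_card_of_nodup hnd, posList, List.length_range']
  have hinj := ((Nat.bijective_iff_surjective_and_card f).2 ⟨hsurj, hcard⟩).1
  have key : ∀ {m : List ℕ} (hm : m.Sublist posList), ∃ S, (f S).1 = ev (gGL w) m ∧
      ∀ a, a ∈ S.1 ↔ a ∈ m := fun {m} hm =>
    ⟨⟨m.toFinset, Finset.mem_powerset.2 fun a ha => List.mem_toFinset.2
      (hm.subset (List.mem_toFinset.1 ha))⟩,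
      congrArg (ev (gGL w)) ((List.filter_congr fun a _ => by simp).trans
        (sublist_eq_filter hm hnd)), fun a => List.mem_toFinset⟩
  obtain ⟨S, hS, hSm⟩ := key hl
  obtain ⟨S', hS', hSm'⟩ := key hl'
  have e := hinj (show f S = f S' from Subtype.ext (by rw [hS, hS', h]))
  rw [← sublist_eq_filter hl hnd, ← sublist_eq_filter hl' hnd]
  refine List.filter_congr fun a _ => ?_
  have hiff : a ∈ l ↔ a ∈ l' := by rw [← hSm, ← hSm', e]
  simp [hiff]

/-! ### The twisted Weyl group -/

omit hw in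
/-- A monomial element of the group permuting the generators as a map respecting the rules. -/
theorem exists_monomial {v : Equiv.Perm (Fin chevE6.nroots)} (hv : v ∈ (coreE6 K).hR.weyl)
    (hc : Commute rhoE6 v) : ∃ n ∈ twistedE6 K (2 ^ 1), n ∈ chevE6.monomialSubgroup K ∧
      (coreE6 K).Moves n v ∧ ∃ σ : ℕ → ℕ, Respects σ ∧ ∀ i : Fin 72, ∃ h : σ i < 72,
        v (rtF i) = rtF ⟨σ i, h⟩ ∧ n * gGL w i * n⁻¹ = gGL w (σ i) := by
  set g := gensE6 K hn (show 2 ≤ 2 ^ 1 by norm_num) with hgdef
  have hwJ : ∀ k, g.wJ k = reflDataE6.wordPerm (e6TwistWord k) := fun k => g.wJ_eq k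
    ((reflDataE6.weylSub _).list_prod_mem fun x hx => by
      obtain ⟨j, hj, rfl⟩ := List.mem_map.1 hx
      exact reflDataE6.sPerm_mem_sub (e6_word_mem k j hj)) (e6_word_neg k)
  induction hm : ((coreE6 K).hR.invSet v).card using Nat.strong_induction_on generalizing v with
  | _ m ih =>
    by_cases h0 : (coreE6 K).hR.invSet v = ∅
    · obtain rfl := (coreE6 K).hR.eq_one_of_invSet_eq_empty hv h0
      exact ⟨1, one_mem _, one_mem _, ChevCore.Acts.moves _ (coreE6 K).acts_one, id, respects_id,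
        fun i => ⟨i.isLt, rfl, by simp⟩⟩
    obtain ⟨k, hneg⟩ := Gens.exists_orbit_neg (O := orbE6) (φ := frobE6 K 2 1) hv hc h0
    obtain ⟨hlt, hpos⟩ := g.all_neg_descent hv k hneg
    have hk : Commute rhoE6 (g.wJ k) := g.wJ_commute k
    obtain ⟨n, hnG, hnN, hnM, σ, hσ, hσi⟩ := ih _ (by omega)
      (mul_mem hv ((coreE6 K).hR.weylSub_le _ (g.wJ_mem k))) (hc.mul_right hk) rfl
    have hA : (coreE6 K).Acts (nK (K := K) k) (g.wJ k) := by rw [hwJ]; exact acts_nK k
    have e : v * g.wJ k * g.wJ k = v := by rw [mul_assoc, g.wJ_mul_self, mul_one]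
    refine ⟨n * nK k, mul_mem hnG (nK_mem k), mul_mem hnN ?_,
      e ▸ ChevCore.Moves.mul _ hnM (ChevCore.Acts.moves _ hA), σ ∘ refl k,
      hσ.comp (respects_refl k.isLt), fun i => ?_⟩
    · exact Subgroup.list_prod_mem _ fun x hx => by
        obtain ⟨j, -, rfl⟩ := List.mem_map.1 hx
        exact (coreE6 K).nS_mem_monomial j
    · obtain ⟨h, h', hi⟩ := refl_check k i
      obtain ⟨h2, hmap, hconj⟩ := hσi ⟨refl k i, h⟩
      refine ⟨h2, ?_, ?_⟩
      · have hk' : g.wJ k (rtF i) = rtF ⟨refl k i, h⟩ := by rw [hwJ]; exact Fin.ext hi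
        conv_lhs => rw [← e]
        rw [Equiv.Perm.mul_apply, hk', hmap]
        rfl
      · show _ = gGL w (σ (refl k i))
        rw [← hconj, ← conj_refl w k i.isLt]
        group

end field

end CfsgLib.Schur.E6Two
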