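import Cfsg.Agent.Lib.Schur.E6Two.Torus
import Cfsg.Agent.Lib.Schur.StableValues
import Cfsg.Agent.Lib.TwistAut.Base

/-!
The fourfold cover of ²E₆(2): the twisted rules present an extension of the unipotent subgroup by a
four-group, it is stable under conjugation, and two pairs of commuting elements give its whole kernel
as transferred values.
-/

set_option autoImplicit false
set_option maxRecDepth 100000

namespace CfsgLib.Schur.E6Two

open Cfsg Cfsg.Lie CfsgLib.ChevStr CfsgLib.Twisted CfsgLib.TwistAut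
open scoped MatrixGroups

universe u

/-- Two pairs of commuting elements of exponent four with non-commuting lifts. -/
theorem pair_same :
    same ([52, 56] ++ [53, 55]) ([53, 55] ++ [52, 56]) (1, 0) = true ∧
    same ([52, 56] ++ [52, 56] ++ ([52, 56] ++ [52, 56])) [] (0, 0) = true ∧
    same ([53, 55] ++ [53, 55] ++ ([53, 55] ++ [53, 55])) [] (0, 0) = true ∧
    same ([37, 39, 53] ++ [39, 56, 71]) ([39, 56, 71] ++ [37, 39, 53]) (1, 1) = true ∧
    same ([37, 39, 53] ++ [37, 39, 53] ++ ([37, 39, 53] ++ [37, 39, 53])) [] (0, 0) = true ∧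
    same ([39, 56, 71] ++ [39, 56, 71] ++ ([39, 56, 71] ++ [39, 56, 71])) [] (0, 0) = true := by
  decide +kernel

theorem ev_rename {H : Type*} [Group H] {y : ℕ → H} {H' : Type*} [Group H'] (f : H →* H')
    (w : List ℕ) : f (ev y w) = ev (fun a => f (y a)) w := map_ev f y w

/-- The model in any universe. -/
theorem exists_model_lift : ∃ (H : Type u) (_ : Group H) (_ : Finite H) (y : ℕ → H) (c : H × H),
    Sat posList y c ∧ Inj posList y c := by
  obtain ⟨H, _, _, y, c, hS, hI⟩ := exists_model posList good_pos allOK_pos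
  let f : H →* ULift.{u} H := MulEquiv.ulift.symm.toMonoidHom
  have hev : ∀ w : List ℕ, ev (fun a => f (y a)) w = f (ev y w) := fun w => (map_ev f y w).symm
  have hcz : ∀ e, cz (f c.1, f c.2) e = f (cz c e) := fun e => (map_cz f c e).symm
  refine ⟨ULift.{u} H, inferInstance, inferInstance, fun a => f (y a), (f c.1, f c.2),
    ⟨⟨?_, ?_, ?_, fun a ha => ?_, fun a ha => ?_⟩, fun a ha => ?_, fun a ha b hb hok => ?_⟩, ?_⟩
  · show f c.1 * f c.1 = 1
    rw [← map_mul, hS.cen.sq1, map_one]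
  · show f c.2 * f c.2 = 1
    rw [← map_mul, hS.cen.sq2, map_one]
  · show f c.1 * f c.2 = f c.2 * f c.1
    rw [← map_mul, hS.cen.comm12, map_mul]
  · show f c.1 * f (y a) = f (y a) * f c.1
    rw [← map_mul, hS.cen.comm1 a ha, map_mul]
  · show f c.2 * f (y a) = f (y a) * f c.2
    rw [← map_mul, hS.cen.comm2 a ha, map_mul]
  · show f (y a) * f (y a) = 1
    rw [← map_mul, hS.sq a ha, map_one]
  · rw [hev, hcz, ← map_mul, ← map_mul, ← map_mul, ← map_mul, hS.swap a ha b hb hok]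
  · intro l l' hl hl' ε ε' h
    rw [hev, hev, hcz, hcz, ← map_mul, ← map_mul] at h
    exact hI l l' hl hl' ε ε' (MulEquiv.ulift.symm.injective h)

variable {K : Type u} [Field K] [CharP K 2] [Fintype K] (hn : Fintype.card K = (2 ^ 1) * (2 ^ 1))
include hn

theorem index_odd :
    Odd ((chevE6.posUnipotent K).subgroupOf (twistedE6 K (2 ^ 1))).index := by
  have hq : 2 ≤ 2 ^ 1 := by norm_num
  set G1 := twistedE6 K (2 ^ 1)
  have g := gensE6 K hn hq
  have key : (pU G1).subgroupOf G1 = (chevE6.posUnipotent K).subgroupOf G1 :=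
    Subgroup.inf_subgroupOf_right _ _
  rw [← key, ← Nat.not_even_iff_odd, even_iff_two_dvd]
  have h1 := Subgroup.card_mul_index ((bor G1).subgroupOf G1)
  have h2 := Subgroup.card_mul_index ((pU G1).subgroupOf G1)
  rw [← h1, Nat.card_congr (Subgroup.subgroupOfEquivOfLe (inf_le_right : bor G1 ≤ G1)).toEquiv,
    Nat.card_congr (Subgroup.subgroupOfEquivOfLe (inf_le_right : pU G1 ≤ G1)).toEquiv, card_bor g,
    mul_assoc] at h2
  rw [Nat.eq_of_mul_eq_mul_left Nat.card_pos h2, Nat.Prime.dvd_mul Nat.prime_two]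
  refine not_or.2 ⟨fun h => ?_,
    not_dvd_index g 2 (n := 1) (by rw [Nat.card_eq_fintype_card, hn]; ring)⟩
  have h' := dvd_trans h (Dvd.intro_left _ (card_H1E6 K hn hq))
  norm_num at h'

set_option maxHeartbeats 1600000 in
/-- The fourfold cover. -/
theorem exists_cover : ∃ (Γ : Type u) (_ : Group Γ) (_ : Finite Γ)
    (σ : Γ →* ↥(twistedE6 K (2 ^ 1))),
    IsStemExtension σ ∧ Nonempty (σ.ker ≃* Multiplicative (ZMod 2 × ZMod 2)) := by
  classical
  obtain ⟨w, hw⟩ := exists_omega (K := K) (by rw [hn]; norm_num)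
  obtain ⟨H, _, _, y, c, hS, hI⟩ := exists_model_lift.{u}
  have hq : 2 ≤ 2 ^ 1 := by norm_num
  set G := twistedE6 K (2 ^ 1) with hGdef
  set U := (chevE6.posUnipotent K).subgroupOf G with hUdef
  have hgx : Sat posList (gx hw hn) (1, 1) := (sat_gx hw hn).mono fun a ha =>
    List.mem_range.2 (posList_lt a ha)
  obtain ⟨π, hπy, hπ1, hπ2⟩ := universal good_pos hS hI hgx
  let cW : ↥(gens posList y c) × ↥(gens posList y c) :=
    (⟨c.1, fst_mem_gens posList y c⟩, ⟨c.2, snd_mem_gens posList y c⟩)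
  let yW : ℕ → ↥(gens posList y c) := fun a =>
    if h : a ∈ posList then ⟨y a, mem_gens y c h⟩ else 1
  have hyW : ∀ a ∈ posList, π (yW a) = gx hw hn a := fun a ha => by
    simp only [yW, dif_pos ha]; exact hπy a ha
  have hyW' : ∀ a ∈ posList, ((yW a : ↥(gens posList y c)) : H) = y a := fun a ha => by simp [yW, ha]
  have hevW : ∀ l : List ℕ, (∀ a ∈ l, a ∈ posList) →
      ((ev yW l : ↥(gens posList y c)) : H) = ev y l := fun l hl =>
    (map_ev (gens posList y c).subtype yW l).trans (ev_congr fun a ha => hyW' a (hl a ha))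
  have hczW : ∀ e, ((cz cW e : ↥(gens posList y c)) : H) = cz c e := fun e =>
    map_cz (gens posList y c).subtype cW e
  have hπcz : ∀ e, π (cz cW e) = 1 := fun e => by
    rw [map_cz, show (π cW.1, π cW.2) = ((1 : ↥G), (1 : ↥G)) from Prod.ext hπ1 hπ2]
    exact cz_one e
  have hπev : ∀ l : List ℕ, (∀ a ∈ l, a ∈ posList) →
      ((π (ev yW l) : ↥G) : GL chevE6.Idx K) = ev (gGL w) l := by
    intro l hl
    rw [map_ev π yW l, ev_congr (y := π ∘ yW) (y' := gx hw hn) fun a ha => hyW a (hl a ha),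
      coe_ev_gx hw hn fun a ha => posList_lt a (hl a ha)]
  have hW : ∀ x : ↥(gens posList y c), ∃ l : List ℕ, l.Sublist posList ∧ ∃ ε : Bool × Bool,
      x = cz cW (bits ε) * ev yW l := fun x => by
    obtain ⟨l, hl, ε, e⟩ := exists_nf good_pos hS x.2
    refine ⟨l, hl, ε, Subtype.ext ?_⟩
    rw [e, Subgroup.coe_mul, hczW, hevW l fun a ha => hl.subset ha]
  have hSW : Sat posList yW cW := by
    refine ⟨⟨Subtype.ext hS.cen.sq1, Subtype.ext hS.cen.sq2, Subtype.ext hS.cen.comm12,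
      fun a ha => Subtype.ext ?_, fun a ha => Subtype.ext ?_⟩, fun a ha => Subtype.ext ?_,
      fun a ha b hb hok => Subtype.ext ?_⟩
    · rw [Subgroup.coe_mul, Subgroup.coe_mul, hyW' a ha]; exact hS.cen.comm1 a ha
    · rw [Subgroup.coe_mul, Subgroup.coe_mul, hyW' a ha]; exact hS.cen.comm2 a ha
    · rw [Subgroup.coe_mul, hyW' a ha, Subgroup.coe_one]; exact hS.sq a ha
    · rw [Subgroup.coe_mul, Subgroup.coe_mul, Subgroup.coe_mul, Subgroup.coe_mul, hyW' a ha,
        hyW' b hb, hczW, hevW _ (good_pos.closed_ok ha hb hok)]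
      exact hS.swap a ha b hb hok
  have hIW : Inj posList yW cW := fun l l' hl hl' ε ε' h => hI l l' hl hl' ε ε' (by
    have h1 := congrArg Subtype.val h
    rwa [Subgroup.coe_mul, Subgroup.coe_mul, hczW, hczW, hevW l fun a ha => hl.subset ha,
      hevW l' fun a ha => hl'.subset ha] at h1)
  have hcc : ∀ e (x : ↥(gens posList y c)), Commute (cz cW e) x := fun e x => by
    obtain ⟨l, hl, ε, rfl⟩ := hW x
    refine Commute.mul_right ?_ (hSW.cen.commute_ev e fun a ha => hl.subset ha)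
    show _ = _
    rw [← hSW.cen.cz_add, ← hSW.cen.cz_add, add_comm]
  have hker : ∀ x, π x = 1 → ∃ ε : Bool × Bool, x = cz cW (bits ε) := fun x hx => by
    obtain ⟨l, hl, ε, rfl⟩ := hW x
    rw [map_mul, hπcz, one_mul] at hx
    have h2 := hπev l fun a ha => hl.subset ha
    rw [hx] at h2
    obtain rfl := ev_injective hw hn hl (List.nil_sublist _) h2.symm
    exact ⟨ε, by rw [ev_nil, mul_one]⟩
  have hrange : π.range = U := by
    refine le_antisymm ?_ fun g hg => ?_
    · rintro _ ⟨x, rfl⟩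
      refine gens_top (U.comap π) ?_ ?_ (fun a ha => ?_) x
      · show π _ ∈ U
        rw [hπ1]; exact one_mem _
      · show π _ ∈ U
        rw [hπ2]; exact one_mem _
      · show π _ ∈ U
        rw [hπy a ha, Subgroup.mem_subgroupOf, coe_gx hw hn (posList_lt a ha)]
        have h := (Subgroup.mem_inf.1 (ev_mem_U1 hw hn (l := [a])
          (fun b hb => by rw [List.mem_singleton] at hb; exact hb ▸ ha))).1
        simpa [ev_cons] using h
    · obtain ⟨l, hl, e⟩ := exists_ev hw hn (g := (g : GL chevE6.Idx K))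
        (Subgroup.mem_inf.2 ⟨Subgroup.mem_subgroupOf.1 hg, g.2⟩)
      exact ⟨ev yW l, Subtype.ext ((hπev l fun a ha => hl.subset ha).trans e)⟩
  have hπU : ∀ x, π x ∈ U := fun x => hrange ▸ ⟨x, rfl⟩
  -- stability
  let Vsub : ↥G → Subgroup ↥(gens posList y c) := fun g =>
    U.comap ((MulAut.conj g⁻¹).toMonoidHom.comp π)
  have hV : ∀ g x, x ∈ Vsub g ↔ g⁻¹ * π x * g ∈ U := fun g x => by
    show g⁻¹ * π x * (g⁻¹)⁻¹ ∈ U ↔ _
    rw [inv_inv]
  let Stable : ↥G → Prop := fun g => ∃ θ : ↥(Vsub g) →* ↥(gens posList y c),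
    (∀ x, π (θ x) = g⁻¹ * π x.1 * g) ∧ ∀ x, π x.1 = 1 → θ x = x.1
  have hright : ∀ g x, Stable g → Stable (g * π x) := by
    rintro g x ⟨θ, h1, h2⟩
    have hle : ∀ z : Vsub (g * π x), z.1 ∈ Vsub g := fun z => by
      have hz := (hV _ _).1 z.2
      rw [hV]
      rw [show (g * π x)⁻¹ * π z.1 * (g * π x) = (π x)⁻¹ * (g⁻¹ * π z.1 * g) * π x by group] at hz
      have := mul_mem (mul_mem (hπU x) hz) (inv_mem (hπU x))
      simpa [mul_assoc] using this
    let ι : ↥(Vsub (g * π x)) →* ↥(Vsub g) :=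
      { toFun := fun z => ⟨z.1, hle z⟩, map_one' := rfl, map_mul' := fun _ _ => rfl }
    refine ⟨((MulAut.conj x⁻¹).toMonoidHom).comp (θ.comp ι), fun z => ?_, fun z hz => ?_⟩
    · show π (x⁻¹ * θ (ι z) * (x⁻¹)⁻¹) = _
      simp only [inv_inv, map_mul, map_inv, h1]
      show _ * (g⁻¹ * π z.1 * g) * _ = _
      group
    · show x⁻¹ * θ (ι z) * (x⁻¹)⁻¹ = z.1
      obtain ⟨ε, e⟩ := hker z.1 hz
      rw [h2 (ι z) hz, inv_inv]
      show x⁻¹ * z.1 * x = z.1
      rw [e, mul_assoc, (hcc _ _).eq, inv_mul_cancel_left]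
  have hleft : ∀ g x, Stable g → Stable (π x * g) := by
    rintro g x ⟨θ, h1, h2⟩
    have hle : ∀ z : Vsub (π x * g), x⁻¹ * z.1 * x ∈ Vsub g := fun z => by
      have hz := (hV _ _).1 z.2
      rw [hV]
      simpa [mul_assoc] using hz
    let ι : ↥(Vsub (π x * g)) →* ↥(Vsub g) :=
      { toFun := fun z => ⟨x⁻¹ * z.1 * x, hle z⟩
        map_one' := Subtype.ext (by simp)
        map_mul' := fun z z' => Subtype.ext (by simp [mul_assoc]) }
    refine ⟨θ.comp ι, fun z => ?_, fun z hz => ?_⟩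
    · show π (θ (ι z)) = _
      rw [h1]
      show g⁻¹ * π (x⁻¹ * z.1 * x) * g = _
      simp only [map_mul, map_inv]
      group
    · obtain ⟨ε, e⟩ := hker z.1 hz
      have e' : (ι z).1 = z.1 := by
        show x⁻¹ * z.1 * x = z.1
        rw [e, mul_assoc, (hcc _ _).eq, inv_mul_cancel_left]
      show θ (ι z) = z.1
      rw [h2 (ι z) (by rw [e']; exact hz), e']
  have hmono : ∀ n : ↥G, (n : GL chevE6.Idx K) ∈ chevE6.monomialSubgroup K → Stable n := by
    intro n hnN
    set C := coreE6 K with hCdef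
    obtain ⟨v, hmv, -⟩ := C.exists_moves (inv_mem hnN)
    have hfix : (frobE6 K 2 1).act (n : GL chevE6.Idx K)⁻¹ = (n : GL chevE6.Idx K)⁻¹ :=
      ((frobE6 K 2 1).mem_fixedSub.1 (le_fixedE6 K hn (inv_mem n.2))).2
    have hvρ : Commute rhoE6 v := (frobE6 K 2 1).commute_of_fixed (inv_mem hnN) hmv hfix
    obtain ⟨nv, hnvG, hnvN, hnvM, σ, hσ, hσi⟩ := exists_monomial hn (w := w) hmv.1 hvρ
    have hd : (n : GL chevE6.Idx K)⁻¹ * nv⁻¹ ∈ chevE6.diagonalSubgroup K := by
      refine C.mem_diagonal_of_moves_one (mul_mem (inv_mem hnN) (inv_mem hnvN)) ?_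
      simpa using ChevCore.Moves.mul C hmv (ChevCore.Moves.inv C hnvN hnvM)
    obtain ⟨tc, htc, htce⟩ : (n : GL chevE6.Idx K)⁻¹ * nv⁻¹ ∈
        (fixTorus piE6 (fun _ => 2 ^ 1)).map (coreE6 K).R.torus :=
      diag_infE6 K hn hq ▸ Subgroup.mem_inf.2 ⟨hd, mul_mem (inv_mem n.2) (inv_mem hnvG)⟩
    obtain ⟨e, he⟩ := exists_conj_torus hw hn htc
    have hσlt : ∀ a < 72, σ a < 72 := fun a ha => (hσi ⟨a, ha⟩).choose
    have hconj : ∀ a < 72, (n : GL chevE6.Idx K)⁻¹ * gGL w a * n = ev (gGL w) (timg e (σ a)) := by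
      intro a ha
      rw [← he (σ a) (hσlt a ha), ← (hσi ⟨a, ha⟩).choose_spec.2, htce]
      group
    set LS := posList.filter (fun a => decide (36 ≤ σ a)) with hLSdef
    have hLS : LS.Sublist posList := List.filter_sublist
    have hmem : ∀ a ∈ LS, σ a ∈ posList := fun a ha => by
      obtain ⟨h1, h2⟩ := List.mem_filter.1 ha
      exact posList_mem.2 ⟨of_decide_eq_true h2, hσlt a (posList_lt a h1)⟩
    have hgood : Good LS := good_pos.filter fun a _ b _ hok hpa hpb m hm => by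
      rw [decide_eq_true_eq] at hpa hpb ⊢
      obtain ⟨hok', -, ht⟩ := hσ a b hok
      obtain ⟨hla, hlb⟩ := ok_lt hok'
      have hm' : σ m ∈ tab (σ a) (σ b) := by
        rcases ht with e | e <;> rw [e]
        · exact List.mem_map_of_mem (f := σ) hm
        · exact List.mem_reverse.2 (List.mem_map_of_mem (f := σ) hm)
      exact (posList_mem.1 (good_pos.closed_ok (posList_mem.2 ⟨hpb, hlb⟩)
        (posList_mem.2 ⟨hpa, hla⟩) hok' _ hm')).1
    have himg := timg_pos e
    have hT : Sat posList (fun a => ev yW (timg e a) * cz cW (teps e a)) cW :=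
      sat_of_imgOK good_pos hSW good_pos himg
        (List.all_eq_true.1 timg_ok e.val (List.mem_range.2 e.isLt))
    have hS' : Sat LS (fun a => ev yW (timg e (σ a)) * cz cW (teps e (σ a))) cW :=
      hT.rename hσ hmem fun a ha b hb hok => hgood.closed_ok ha hb hok
    obtain ⟨φ, hφy, hφ1, hφ2⟩ := universal hgood (hSW.mono fun a ha => hLS.subset ha)
      (fun l l' hl hl' => hIW l l' (hl.trans hLS) (hl'.trans hLS)) hS'
    have hle : ∀ x, x ∈ Vsub n → x ∈ gens LS yW cW := by
      intro x hx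
      rw [hV] at hx
      set g : GL chevE6.Idx K := ((π x : ↥G) : GL chevE6.Idx K) with hgdef
      set U1 := chevE6.posUnipotent K ⊓ G with hU1
      have hgU : g ∈ U1 := Subgroup.mem_inf.2 ⟨hπU x, (π x).2⟩
      have hngU : (n : GL chevE6.Idx K)⁻¹ * g * n ∈ chevE6.posUnipotent K :=
        Subgroup.mem_subgroupOf.1 hx
      set B := (frobE6 K 2 1).fixU (C.hR.invRoots v) with hBdef
      obtain ⟨hB1, hB2⟩ := (gensE6 K hn hq).fix_invRoots hmv.1 hvρ
      have hBU : B ≤ U1 := by
        refine le_inf ?_ hB1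
        rw [C.posUnipotent_eq]
        exact inf_le_left.trans (C.Ucl_mono (C.hR.invRoots_closed hmv.1).1)
      have hBV : ∀ b ∈ B, (n : GL chevE6.Idx K)⁻¹ * b * n ∈ chevE6.negUnipotent K := fun b hb => by
        have h := C.conj_invRoots_mem_neg hmv b (Subgroup.mem_inf.1 hb).1
        rwa [inv_inv] at h
      have hAU : ∀ l : List ℕ, (∀ a ∈ l, a ∈ LS) →
          (n : GL chevE6.Idx K)⁻¹ * ev (gGL w) l * n ∈ chevE6.posUnipotent K := by
        intro l hl
        have h : ev (gGL w) l ∈ (chevE6.posUnipotent K).comap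
            (MulAut.conj (n : GL chevE6.Idx K)⁻¹).toMonoidHom := by
          refine Subgroup.list_prod_mem _ fun z hz => ?_
          obtain ⟨a, ha, rfl⟩ := List.mem_map.1 hz
          show (n : GL chevE6.Idx K)⁻¹ * gGL w a * ((n : GL chevE6.Idx K)⁻¹)⁻¹ ∈ chevE6.posUnipotent K
          rw [inv_inv, hconj a (posList_lt a (hLS.subset (hl a ha)))]
          have hm := ev_mem_U1 hw hn (l := timg e (σ a)) (himg (σ a) (hmem a (hl a ha)))
          exact (Subgroup.mem_inf.1 hm).1
        have h' : (n : GL chevE6.Idx K)⁻¹ * ev (gGL w) l * ((n : GL chevE6.Idx K)⁻¹)⁻¹ ∈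
            chevE6.posUnipotent K := h
        rwa [inv_inv] at h'
      have hUV : ∀ z, z ∈ chevE6.posUnipotent K → z ∈ chevE6.negUnipotent K → z = 1 :=
        fun z h1 h2 => (Subgroup.eq_bot_iff_forall _).1 C.borel_inf_negUnipotent z
          (Subgroup.mem_inf.2 ⟨le_sup_left (b := chevE6.diagonalSubgroup K) h1, h2⟩)
      have hback : ∀ b : GL chevE6.Idx K, (n : GL chevE6.Idx K)⁻¹ * b * n = 1 → b = 1 :=
        fun b hb => by
          have := congrArg (fun z => (n : GL chevE6.Idx K) * z * (n : GL chevE6.Idx K)⁻¹) hb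
          simpa [mul_assoc] using this
      have hnd : LS.Nodup := (List.nodup_range' : posList.Nodup).sublist hLS
      let f : LS.toFinset.powerset × ↥B → ↥U1 := fun p =>
        ⟨ev (gGL w) (LS.filter fun a => decide (a ∈ p.1.1)) * p.2.1,
          mul_mem (ev_mem_U1 hw hn fun a ha => hLS.subset (List.mem_filter.1 ha).1) (hBU p.2.2)⟩
      have hfi : Function.Injective f := by
        rintro ⟨⟨S, hS1⟩, b⟩ ⟨⟨S', hS2⟩, b'⟩ h
        set l := LS.filter fun a => decide (a ∈ S)
        set l' := LS.filter fun a => decide (a ∈ S')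
        have h' : ev (gGL w) l * (b : GL chevE6.Idx K) = ev (gGL w) l' * b' := congrArg Subtype.val h
        have h1 : (ev (gGL w) l')⁻¹ * ev (gGL w) l = b' * (b : GL chevE6.Idx K)⁻¹ := by
          rw [eq_mul_inv_iff_mul_eq, mul_assoc, h', inv_mul_cancel_left]
        have hz := hback _ (hUV ((n : GL chevE6.Idx K)⁻¹ * (b' * (b : GL chevE6.Idx K)⁻¹) * n)
          (by
            rw [← h1]
            have := mul_mem (inv_mem (hAU l' fun a ha => (List.mem_filter.1 ha).1))
              (hAU l fun a ha => (List.mem_filter.1 ha).1)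
            simpa [mul_assoc] using this) (hBV _ (mul_mem b'.2 (inv_mem b.2))))
        obtain rfl : b = b' := Subtype.ext (mul_inv_eq_one.1 hz).symm
        have hl : l = l' := ev_injective hw hn ((List.filter_sublist).trans hLS)
          ((List.filter_sublist).trans hLS) (mul_right_cancel h')
        have hSS : S = S' := by
          ext a
          have hmem : ∀ T : Finset ℕ, T ⊆ LS.toFinset →
              (a ∈ T ↔ a ∈ LS.filter fun x => decide (x ∈ T)) := fun T hT => by
            rw [List.mem_filter, decide_eq_true_eq]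
            exact ⟨fun h => ⟨List.mem_toFinset.1 (hT h), h⟩, fun h => h.2⟩
          rw [hmem S (Finset.mem_powerset.1 hS1), hmem S' (Finset.mem_powerset.1 hS2)]
          show a ∈ l ↔ a ∈ l'
          rw [hl]
        subst hSS
        rfl
      have hcard : Nat.card (LS.toFinset.powerset × ↥B) = Nat.card ↥U1 := by
        have hB : Nat.card ↥B = 2 ^ (C.hR.invSet v).card := by
          refine Nat.pow_left_injective (show 2 ≠ 0 by norm_num) ?_
          show _ ^ 2 = _ ^ 2
          rw [hB2, Nat.card_eq_fintype_card, hn, ← pow_mul, mul_comm _ 2, pow_mul]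
          norm_num
        rw [Nat.card_prod, hB, hU1, card_U1_two hn, Nat.card_eq_finsetCard, Finset.card_powerset,
          ← pow_add]
        congr 1
        have hbij : Function.Bijective rtF := by
          refine (Finite.injective_iff_bijective (f := rtF)).1 ?_
          exact fun i j h => Fin.ext (rt_inj i.isLt j.isLt (congrArg Fin.val h))
        have hposiff : ∀ i : Fin 72, chevE6.IsPosRoot (rtF i) ↔ 36 ≤ (i : ℕ) := fun i =>
          ((index_check i i.isLt).2.1).symm
        have e2 : (C.hR.invSet v).card =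
            (Finset.univ.filter fun i : Fin 72 => 36 ≤ (i : ℕ) ∧ ¬ 36 ≤ σ i).card := by
          symm
          refine Finset.card_bij (fun i _ => rtF i) (fun i hi => ?_) (fun i _ j _ h => hbij.1 h)
            (fun s hs => ?_)
          · simp only [Finset.mem_filter, Finset.mem_univ, true_and] at hi
            obtain ⟨h, hvi, -⟩ := hσi i
            refine C.hR.mem_invSet.2 ⟨(hposiff i).2 hi.1, ?_⟩
            rw [hvi]
            exact (C.R.pos_or_neg (rtF ⟨σ i, h⟩).isLt).resolve_left fun hp =>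
              hi.2 ((hposiff ⟨σ i, h⟩).1 hp)
          · obtain ⟨i, rfl⟩ := hbij.2 s
            obtain ⟨h1, h2⟩ := C.hR.mem_invSet.1 hs
            obtain ⟨h, hvi, -⟩ := hσi i
            rw [hvi] at h2
            exact ⟨i, Finset.mem_filter.2 ⟨Finset.mem_univ _, (hposiff i).1 h1,
              fun h3 => C.R.not_pos_and_neg ((hposiff ⟨σ i, h⟩).2 h3) h2⟩, rfl⟩
        have e1 : LS.toFinset.card =
            (Finset.univ.filter fun i : Fin 72 => 36 ≤ (i : ℕ) ∧ 36 ≤ σ i).card := by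
          rw [← Finset.card_map Fin.valEmbedding]
          congr 1
          ext a
          simp only [hLSdef, List.mem_toFinset, List.mem_filter, decide_eq_true_eq, Finset.mem_map,
            Finset.mem_filter, Finset.mem_univ, true_and, Fin.valEmbedding_apply, posList_mem]
          exact ⟨fun h => ⟨⟨a, h.1.2⟩, ⟨h.1.1, h.2⟩, rfl⟩,
            fun ⟨i, h, hi⟩ => hi ▸ ⟨⟨h.1, i.isLt⟩, h.2⟩⟩
        have e3 : (Finset.univ.filter fun i : Fin 72 => 36 ≤ (i : ℕ)).card = 36 := by decide +kernel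
        rw [e1, e2, ← Finset.filter_filter, ← Finset.filter_filter,
          Finset.card_filter_add_card_filter_not, e3]
      obtain ⟨⟨⟨S, hS1⟩, b⟩, hab⟩ :=
        ((Nat.bijective_iff_injective_and_card f).2 ⟨hfi, hcard⟩).2 ⟨g, hgU⟩
      set l := LS.filter fun a => decide (a ∈ S)
      have hab' : ev (gGL w) l * (b : GL chevE6.Idx K) = g := congrArg Subtype.val hab
      have hlm : ∀ a ∈ l, a ∈ LS := fun a ha => (List.mem_filter.1 ha).1
      have hb1 : (b : GL chevE6.Idx K) = 1 := by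
        refine hback _ (hUV _ ?_ (hBV _ b.2))
        rw [show (n : GL chevE6.Idx K)⁻¹ * b * n = ((n : GL chevE6.Idx K)⁻¹ * ev (gGL w) l * n)⁻¹ *
          ((n : GL chevE6.Idx K)⁻¹ * g * n) by rw [← hab']; group]
        exact mul_mem (inv_mem (hAU l hlm)) hngU
      rw [hb1, mul_one] at hab'
      have hπl : π (ev yW l) = π x :=
        Subtype.ext ((hπev l fun a ha => hLS.subset (hlm a ha)).trans hab')
      obtain ⟨ε, hε⟩ := hker ((ev yW l)⁻¹ * x) (by rw [map_mul, map_inv, hπl, inv_mul_cancel])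
      rw [show x = ev yW l * cz cW (bits ε) by rw [← hε, mul_inv_cancel_left]]
      exact mul_mem (ev_mem_gens yW cW hlm) (cz_mem_gens LS yW cW _)
    let ι : ↥(Vsub n) →* ↥(gens LS yW cW) :=
      { toFun := fun x => ⟨x.1, hle _ x.2⟩, map_one' := rfl, map_mul' := fun _ _ => rfl }
    let lhs : ↥(gens LS yW cW) →* ↥G := π.comp φ
    let rhs : ↥(gens LS yW cW) →* ↥G :=
      (MulAut.conj n⁻¹).toMonoidHom.comp (π.comp (gens LS yW cW).subtype)
    have hlr : ∀ z, lhs z = rhs z := gens_top (lhs.eqLocus rhs)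
      (by
        show π (φ _) = n⁻¹ * π cW.1 * n⁻¹⁻¹
        rw [hφ1, show π cW.1 = 1 from hπ1]; simp)
      (by
        show π (φ _) = n⁻¹ * π cW.2 * n⁻¹⁻¹
        rw [hφ2, show π cW.2 = 1 from hπ2]; simp)
      (fun a ha => by
        show π (φ _) = n⁻¹ * π (yW a) * n⁻¹⁻¹
        rw [hφy a ha, map_mul, hπcz, mul_one, inv_inv, hyW a (hLS.subset ha)]
        refine Subtype.ext ?_
        rw [hπev _ (himg _ (hmem a ha)), Subgroup.coe_mul, Subgroup.coe_mul, Subgroup.coe_inv,
          coe_gx hw hn (posList_lt a (hLS.subset ha)), hconj a (posList_lt a (hLS.subset ha))])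
    refine ⟨φ.comp ι, fun x => ?_, fun x hx => ?_⟩
    · have h := hlr (ι x)
      show lhs (ι x) = _
      rw [h]
      show n⁻¹ * π x.1 * n⁻¹⁻¹ = _
      rw [inv_inv]
    · obtain ⟨ε, hε⟩ := hker x.1 hx
      show φ (ι x) = x.1
      let gc : ↥(gens LS yW cW) × ↥(gens LS yW cW) :=
        (⟨cW.1, fst_mem_gens LS yW cW⟩, ⟨cW.2, snd_mem_gens LS yW cW⟩)
      rw [show ι x = cz gc (bits ε) from Subtype.ext
        (hε.trans (map_cz (gens LS yW cW).subtype gc _).symm), map_cz, hε]
      exact congrArg (fun p => cz p (bits ε)) (Prod.ext hφ1 hφ2)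
  have hall : ∀ g, Stable g := by
    intro g
    obtain ⟨u, hu, n, hnm, v, hv, -, hg⟩ := (gensE6 K hn hq).twist.nf g.2
    obtain ⟨xu, hxu⟩ : (⟨u, hu.2⟩ : ↥G) ∈ π.range := by rw [hrange]; exact hu.1
    obtain ⟨xv, hxv⟩ : (⟨v, hv.2⟩ : ↥G) ∈ π.range := by rw [hrange]; exact hv.1
    rw [show g = π xu * ⟨n, hnm.2⟩ * π xv from Subtype.ext (by rw [hxu, hxv]; exact hg)]
    exact hright _ _ (hleft _ _ (hmono _ hnm.1))
  -- the kernel
  let A := ULift.{u} (Multiplicative (ZMod 2 × ZMod 2))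
  let ex : A → ℕ × ℕ := fun a =>
    ((Multiplicative.toAdd a.down).1.val, (Multiplicative.toAdd a.down).2.val)
  let ψ : A →* ↥(gens posList y c) :=
    { toFun := fun a => cz cW (ex a)
      map_one' := cz_zero' cW
      map_mul' := fun a b => by
        rw [← hSW.cen.cz_add]
        refine hSW.cen.cz_parity ?_ ?_
        · show (Multiplicative.toAdd (a.down * b.down)).1.val % 2 = _
          rw [toAdd_mul, Prod.fst_add, ZMod.val_add, Nat.mod_mod]
          rfl
        · show (Multiplicative.toAdd (a.down * b.down)).2.val % 2 = _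
          rw [toAdd_mul, Prod.snd_add, ZMod.val_add, Nat.mod_mod]
          rfl }
  have hex : ∀ a : A, ∃ ε : Bool × Bool, ex a = bits ε := by
    rintro ⟨a⟩
    have key : ∀ b : Multiplicative (ZMod 2 × ZMod 2), ∃ ε : Bool × Bool,
        ((Multiplicative.toAdd b).1.val, (Multiplicative.toAdd b).2.val) = bits ε := by decide
    exact key a
  have hψinj : Function.Injective ψ := by
    intro a b hab
    obtain ⟨εa, ha⟩ := hex a
    obtain ⟨εb, hb⟩ := hex b
    have h := (hIW [] [] (List.nil_sublist _) (List.nil_sublist _) εa εb (by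
      rw [ev_nil, mul_one, mul_one, ← ha, ← hb]; exact hab)).1
    have e : ex a = ex b := by rw [ha, hb, h]
    obtain ⟨a⟩ := a
    obtain ⟨b⟩ := b
    have key : ∀ x z : Multiplicative (ZMod 2 × ZMod 2),
        ((Multiplicative.toAdd x).1.val, (Multiplicative.toAdd x).2.val) =
          ((Multiplicative.toAdd z).1.val, (Multiplicative.toAdd z).2.val) → x = z := by decide
    exact congrArg ULift.up (key a b e)
  have hkerψ : π.ker = ψ.range := by
    refine le_antisymm (fun x hx => ?_) ?_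
    · obtain ⟨ε, rfl⟩ := hker x hx
      have key : ∀ ε : Bool × Bool, ∃ b : Multiplicative (ZMod 2 × ZMod 2),
          ((Multiplicative.toAdd b).1.val, (Multiplicative.toAdd b).2.val) = bits ε := by decide
      obtain ⟨b, hb⟩ := key ε
      exact ⟨⟨b⟩, congrArg (cz cW) hb⟩
    · rintro _ ⟨a, rfl⟩
      exact MonoidHom.mem_ker.2 (hπcz _)
  have hcenψ : ∀ (a : A) x, x * ψ a = ψ a * x := fun a x => ((hcc (ex a) x).eq).symm
  have hst : StableValues.Stable π ψ := by
    intro g e₁ e₂ f₁ f₂ a _ hf₁ hf₂ he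
    obtain ⟨θ, h1, h2⟩ := hall g⁻¹
    have hin : ∀ {e f}, π f = g * π e * g⁻¹ → e ∈ Vsub g⁻¹ := fun {e f} hf => by
      rw [hV, inv_inv, ← hf]; exact hπU f
    have hlift : ∀ {e f} (hf : π f = g * π e * g⁻¹), ∃ b, f = ψ b * θ ⟨e, hin hf⟩ := fun {e f} hf => by
      have hm : f * (θ ⟨e, hin hf⟩)⁻¹ ∈ ψ.range := by
        rw [← hkerψ, MonoidHom.mem_ker, map_mul, map_inv, h1, inv_inv, hf, mul_inv_cancel]
      obtain ⟨b, hb⟩ := hm
      exact ⟨b, by rw [hb, inv_mul_cancel_right]⟩
    obtain ⟨b₁, e₁'⟩ := hlift hf₁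
    obtain ⟨b₂, e₂'⟩ := hlift hf₂
    set t₁ := θ ⟨e₁, hin hf₁⟩
    set t₂ := θ ⟨e₂, hin hf₂⟩
    have hk : π (ψ a) = 1 := MonoidHom.mem_ker.1 (hkerψ ▸ ⟨a, rfl⟩)
    have hka : ψ a ∈ Vsub g⁻¹ := by rw [hV, hk]; simp
    have ht : t₁ * t₂ = ψ a * (t₂ * t₁) := by
      have h3 : (⟨e₁, hin hf₁⟩ : Vsub g⁻¹) * ⟨e₂, hin hf₂⟩ =
          ⟨ψ a, hka⟩ * (⟨e₂, hin hf₂⟩ * ⟨e₁, hin hf₁⟩) := Subtype.ext he
      have h4 := congrArg θ h3
      rw [map_mul, map_mul, map_mul, h2 ⟨ψ a, hka⟩ hk] at h4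
      exact h4
    rw [e₁', e₂']
    calc ψ b₁ * t₁ * (ψ b₂ * t₂) = ψ b₁ * (t₁ * ψ b₂) * t₂ := by group
      _ = ψ (b₁ * b₂) * (t₁ * t₂) := by rw [hcenψ, map_mul]; group
      _ = ψ (b₁ * b₂ * a) * (t₂ * t₁) := by rw [ht, ← mul_assoc, ← map_mul]
      _ = ψ a * (ψ b₂ * (ψ b₁ * t₂) * t₁) := by
          rw [mul_comm (b₁ * b₂) a, mul_comm b₁ b₂, map_mul, map_mul]; group
      _ = _ := by rw [← hcenψ b₁ t₂]; group
  have hpair : ∀ (lx ly : List ℕ) (k : A), (∀ a ∈ lx, a ∈ posList) → (∀ a ∈ ly, a ∈ posList) →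
      same (lx ++ ly) (ly ++ lx) (ex k) = true →
      same (lx ++ lx ++ (lx ++ lx)) [] (0, 0) = true → same (ly ++ ly ++ (ly ++ ly)) [] (0, 0) = true →
      ∃ x z : ↥(gens posList y c), π x ^ 4 = 1 ∧ π z ^ 4 = 1 ∧ x * z = ψ k * (z * x) := by
    intro lx ly k hx hy hxy hx4 hy4
    have hap : ∀ {l l' : List ℕ}, (∀ a ∈ l, a ∈ posList) → (∀ a ∈ l', a ∈ posList) →
        ∀ a ∈ l ++ l', a ∈ posList := fun h h' a ha => (List.mem_append.1 ha).elim (h a) (h' a)
    have hfour : ∀ l : List ℕ, (∀ a ∈ l, a ∈ posList) →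
        same (l ++ l ++ (l ++ l)) [] (0, 0) = true → π (ev yW l) ^ 4 = 1 := fun l hl h => by
      have e := same_sound good_pos hSW (hap (hap hl hl) (hap hl hl)) (by simp) h
      rw [cz_zero', mul_one, ev_nil] at e
      rw [← map_pow, show ev yW l ^ 4 = ev yW (l ++ l ++ (l ++ l)) by
        simp only [ev_append, pow_succ, pow_zero, one_mul, mul_assoc], e, map_one]
    refine ⟨ev yW lx, ev yW ly, hfour lx hx hx4, hfour ly hy hy4, ?_⟩
    have e := same_sound good_pos hSW (hap hx hy) (hap hy hx) hxy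
    rw [ev_append, ev_append] at e
    show _ = cz cW (ex k) * _
    rw [← e, ← mul_assoc (cz cW (ex k)), (hcc (ex k) _).eq, mul_assoc, hSW.cen.cz_self, mul_one]
  have hS' : Subgroup.closure ({⟨Multiplicative.ofAdd (1, 0)⟩, ⟨Multiplicative.ofAdd (1, 1)⟩} :
      Set A) = ⊤ := by
    refine top_le_iff.1 fun a _ => ?_
    set k₁ : A := ⟨Multiplicative.ofAdd (1, 0)⟩
    set k₂ : A := ⟨Multiplicative.ofAdd (1, 1)⟩
    have h1 : k₁ ∈ Subgroup.closure ({k₁, k₂} : Set A) := Subgroup.subset_closure (by simp)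
    have h2 : k₂ ∈ Subgroup.closure ({k₁, k₂} : Set A) := Subgroup.subset_closure (by simp)
    have key : ∀ b : Multiplicative (ZMod 2 × ZMod 2),
        b = 1 ∨ b = Multiplicative.ofAdd (1, 0) ∨ b = Multiplicative.ofAdd (1, 1) ∨
          b = Multiplicative.ofAdd (1, 0) * Multiplicative.ofAdd (1, 1) := by decide
    obtain ⟨b⟩ := a
    rcases key b with rfl | rfl | rfl | rfl
    · exact one_mem _
    · exact h1
    · exact h2
    · exact mul_mem h1 h2
  have hA : ∀ a : A, a * a = 1 := fun ⟨a⟩ => by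
    have key : ∀ b : Multiplicative (ZMod 2 × ZMod 2), b * b = 1 := by decide
    exact congrArg ULift.up (key a)
  obtain ⟨p1, p2, p3, p4, p5, p6⟩ := pair_same
  have hm : ∀ a ∈ [52, 56, 53, 55, 37, 39, 71], a ∈ posList := by decide +kernel
  obtain ⟨Γ, i1, i2, σ, hσ, ⟨eker⟩⟩ := StableValues.exists_stem π ψ hψinj hkerψ hcenψ
    (hrange ▸ index_odd hn) hst hA hS' (by
      rintro k (rfl | rfl)
      · exact hpair [52, 56] [53, 55] _ (fun a ha => hm a (by simp at ha ⊢; tauto))
          (fun a ha => hm a (by simp at ha ⊢; tauto)) p1 p2 p3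
      · exact hpair [37, 39, 53] [39, 56, 71] _ (fun a ha => hm a (by simp at ha ⊢; tauto))
          (fun a ha => hm a (by simp at ha ⊢; tauto)) p4 p5 p6)
  exact ⟨Γ, i1, i2, σ, hσ, ⟨eker.trans MulEquiv.ulift⟩⟩

end CfsgLib.Schur.E6Two
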