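import Cfsg.Agent.Lib.Schur.E6Two.UpperCert
import Cfsg.Agent.Lib.Schur.E6Two.Lower
import Cfsg.Agent.Lib.TwistMult.E6Rank
import Cfsg.Agent.Lib.Schur.Basic

/-!
The upper bound on the multiplier of ²E₆(2): in a stem extension the lifted root elements satisfy
the rules twisted by two central involutions; modulo these the kernel has odd order and is then an
image of a group of order three.
-/

set_option autoImplicit false
set_option maxRecDepth 100000

namespace CfsgLib.Schur.E6Two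

open Cfsg Cfsg.Lie CfsgLib.ChevStr CfsgLib.Twisted CfsgLib.TwistMult
open scoped MatrixGroups

universe u

theorem comm_central {Γ : Type*} [Group Γ] {p q : Γ} (hp : ∀ g, p * g = g * p)
    (hq : ∀ g, q * g = g * q) (x y : Γ) :
    (y * q * (x * p))⁻¹ * (x * p * (y * q)) = (y * x)⁻¹ * (x * y) := by
  have hc : ∀ (p q : Γ), (∀ g, p * g = g * p) → (∀ g, q * g = g * q) → ∀ a b : Γ,
      a * p * (b * q) = p * q * (a * b) := fun p q hp hq a b => by
    rw [← hp a, ← hq b, show p * a * (q * b) = p * (a * q) * b by group, ← hq a]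
    group
  rw [hc q p hq hp y x, hc p q hp hq x y, hp q]
  group

variable {K : Type u} [Field K] [CharP K 2] [Fintype K] (hn : Fintype.card K = (2 ^ 1) * (2 ^ 1))
include hn

/-- The lifts of the generators satisfy the rules twisted by two elements of the kernel. -/
theorem exists_lifts {w : K} (hw : w * w = w + 1) {Γ : Type u} [Group Γ]
    (σ : Γ →* ↥(twistedE6 K (2 ^ 1))) (hσ : IsStemExtension σ) :
    ∃ (X : ℕ → Γ) (c : Γ × Γ), (∀ k < 72, σ (X k) = gx hw hn k) ∧ σ c.1 = 1 ∧ σ c.2 = 1 ∧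
      Sat (List.range 72) X c := by
  have hz : ∀ x, σ x = 1 → ∀ g, x * g = g * x := fun x hx g =>
    (Subgroup.mem_center_iff.1 (hσ.2.1 hx) g).symm
  let yl : ℕ → Γ := fun a => Function.surjInv hσ.1 (gx hw hn a)
  have hyl : ∀ a, σ (yl a) = gx hw hn a := fun a => Function.surjInv_eq hσ.1 _
  let X : ℕ → Γ := fun k => (yl (dec k).2 * yl (dec k).1)⁻¹ * (yl (dec k).1 * yl (dec k).2)
  have hG := sat_gx hw hn
  have hX : ∀ k < 72, σ (X k) = gx hw hn k := by
    intro k hk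
    obtain ⟨h1, h2⟩ := dec_check k hk
    obtain ⟨hb, ha⟩ := ok_lt h1
    simp only [X, map_mul, map_inv, hyl]
    rw [hG.swap _ (List.mem_range.2 ha) _ (List.mem_range.2 hb) h1, h2]
    simp [ev_cons, mul_assoc, cz]
  have hXdef : ∀ k, X k = (yl (dec k).2 * yl (dec k).1)⁻¹ * (yl (dec k).1 * yl (dec k).2) :=
    fun k => rfl
  clear_value X
  let τ : ℕ → Γ := fun u =>
    if u / 72 = u % 72 ∧ u % 72 < 72 then X (u % 72) * X (u % 72)
    else if ok (u / 72) (u % 72) then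
      (X (u / 72) * X (u % 72) * ev X (tab (u / 72) (u % 72)))⁻¹ * (X (u % 72) * X (u / 72))
    else 1
  have hτ : ∀ u, σ (τ u) = 1 := by
    intro u
    simp only [τ]
    split
    · next h =>
      rw [map_mul, hX _ h.2]
      exact hG.sq _ (List.mem_range.2 h.2)
    · split
      · next h =>
        obtain ⟨hb, ha⟩ := ok_lt h
        have e : σ (ev X (tab (u / 72) (u % 72))) = ev (gx hw hn) (tab (u / 72) (u % 72)) := by
          rw [map_ev σ X]
          exact ev_congr fun m hm => hX m ((tab_facts h).2.2.1 m hm)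
        rw [map_mul, map_inv, map_mul, map_mul, map_mul, hX _ ha, hX _ hb, e,
          hG.swap _ (List.mem_range.2 ha) _ (List.mem_range.2 hb) h, cz_one, mul_one,
          inv_mul_cancel]
      · exact map_one σ
  have hT : Tailed X τ := by
    refine ⟨fun u g => hz _ (hτ u) g, fun a ha => ?_, fun a b hok => ?_⟩
    · have h1 : (73 * a) / 72 = a := by omega
      have h2 : (73 * a) % 72 = a := by omega
      simp only [τ, h1, h2, ha, and_self, if_true]
    · obtain ⟨hb, ha⟩ := ok_lt hok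
      have h1 : (72 * b + a) / 72 = b := by omega
      have h2 : (72 * b + a) % 72 = a := by omega
      have hne : b ≠ a := ok_ne hok
      simp only [τ, h1, h2, hne, false_and, if_false, hok, if_true]
      rw [mul_inv_cancel_left]
  have h0 : ∀ k < 72, τ (72 * (dec k).2 + (dec k).1) = 1 := by
    intro k hk
    obtain ⟨h1, h2⟩ := dec_check k hk
    obtain ⟨hb, ha⟩ := ok_lt h1
    have e := hT.swap (dec k).1 (dec k).2 h1
    rw [h2] at e
    simp only [ev_cons, ev_nil, mul_one] at e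
    have hp : ∀ a, a < 72 → ∀ g, (yl a)⁻¹ * X a * g = g * ((yl a)⁻¹ * X a) := fun a ha g =>
      hz _ (by rw [map_mul, map_inv, hyl, hX a ha, inv_mul_cancel]) g
    have key : (X (dec k).2 * X (dec k).1)⁻¹ * (X (dec k).1 * X (dec k).2) = X k := by
      conv_lhs => rw [show X (dec k).1 = yl (dec k).1 * ((yl (dec k).1)⁻¹ * X (dec k).1) by group,
        show X (dec k).2 = yl (dec k).2 * ((yl (dec k).2)⁻¹ * X (dec k).2) by group]
      exact (comm_central (hp _ ha) (hp _ hb) _ _).trans (hXdef k).symm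
    rw [e, mul_assoc (X (dec k).2 * X (dec k).1), inv_mul_cancel_left] at key
    exact mul_eq_left.1 key
  exact ⟨X, (τ eOne, τ eTwo), hX, hτ eOne, hτ eTwo, tails_eq hT h0⟩

/-- If the lifted generators satisfy the untwisted rules the kernel has odd order. -/
theorem ker_odd {w : K} (hw : w * w = w + 1) {Q : Type u} [Group Q] [Finite Q]
    {π : Q →* ↥(twistedE6 K (2 ^ 1))} (hπ : IsStemExtension π) {Y : ℕ → Q}
    (hY : ∀ k < 72, π (Y k) = gx hw hn k) (hS : Sat (List.range 72) Y (1, 1)) :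
    ¬ 2 ∣ Nat.card ↥π.ker := by
  intro hd
  let G := twistedE6 K (2 ^ 1)
  let U := (chevE6.posUnipotent K).subgroupOf G
  have : Fact (Nat.Prime 2) := ⟨Nat.prime_two⟩
  obtain ⟨⟨x, hx⟩, ho⟩ := exists_prime_orderOf_dvd_card' 2 hd
  have hU : IsPGroup 2 ↥U := by
    refine IsPGroup.of_card (n := 36) ?_
    rw [show U = (chevE6.posUnipotent K ⊓ G).subgroupOf G from
      (Subgroup.inf_subgroupOf_right _ _).symm, Nat.card_congr (Subgroup.subgroupOfEquivOfLe
      (inf_le_right : chevE6.posUnipotent K ⊓ G ≤ G)).toEquiv, card_U1_two hn]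
  have hidx : ¬ 2 ∣ U.index := fun h => (Nat.not_even_iff_odd.2 (index_odd hn)) (even_iff_two_dvd.2 h)
  obtain ⟨P, hP⟩ := exists_sylow_map_eq hπ.1 (hU.toSylow hidx)
  have hPU : (P : Subgroup Q).map π = U := hP
  have hx2 : x ^ 2 = 1 := by
    have h := congrArg Subtype.val (orderOf_dvd_iff_pow_eq_one.1 ho.dvd)
    exact h
  have hxd := center_commutator_sylow P (hπ.2.1 hx) (hπ.2.2 hx)
    (center_mem_sylow P (hπ.2.1 hx) hx2)
  have hYp : Sat posList Y (1, 1) := hS.mono fun a ha => List.mem_range.2 (posList_lt a ha)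
  have hdec : ∀ g ∈ (P : Subgroup Q), ∃ m ∈ gens posList Y (1, 1), ∃ q, π q = 1 ∧ g = m * q := by
    intro g hg
    have hgU : π g ∈ U := hPU ▸ Subgroup.mem_map_of_mem π hg
    obtain ⟨l, hl, e⟩ := exists_ev hw hn (g := ((π g : ↥G) : GL chevE6.Idx K))
      (Subgroup.mem_inf.2 ⟨Subgroup.mem_subgroupOf.1 hgU, (π g).2⟩)
    have hl72 : ∀ a ∈ l, a < 72 := fun a ha => posList_lt a (hl.subset ha)
    refine ⟨ev Y l, ev_mem_gens Y _ fun a ha => hl.subset ha, (ev Y l)⁻¹ * g, ?_,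
      (mul_inv_cancel_left _ _).symm⟩
    rw [map_mul, map_inv, map_ev π Y l, ev_congr (y := π ∘ Y) (y' := gx hw hn) fun a ha => hY a (hl72 a ha),
      inv_mul_eq_one]
    exact Subtype.ext ((coe_ev_gx hw hn hl72).trans e)
  have hz : ∀ q, π q = 1 → ∀ g, q * g = g * q := fun q hq g =>
    (Subgroup.mem_center_iff.1 (hπ.2.1 hq) g).symm
  have hle : ⁅(P : Subgroup Q), (P : Subgroup Q)⁆ ≤ gens posList Y (1, 1) := by
    rw [Subgroup.commutator_le]
    intro a ha b hb
    obtain ⟨a', ha', p, hp, rfl⟩ := hdec a ha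
    obtain ⟨b', hb', q, hq, rfl⟩ := hdec b hb
    have e : a' * p * (b' * q) * (a' * p)⁻¹ * (b' * q)⁻¹ = a' * b' * a'⁻¹ * b'⁻¹ := by
      simp only [mul_inv_rev]
      rw [show a' * p * (b' * q) * (p⁻¹ * a'⁻¹) * (q⁻¹ * b'⁻¹) =
        a' * (p * (b' * q) * p⁻¹) * (a'⁻¹ * q⁻¹) * b'⁻¹ by group, hz p hp (b' * q),
        mul_inv_cancel_right, show a' * (b' * q) * (a'⁻¹ * q⁻¹) * b'⁻¹ =
          a' * b' * (q * a'⁻¹ * q⁻¹) * b'⁻¹ by group, hz q hq, mul_inv_cancel_right]
    rw [commutatorElement_def, e]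
    exact mul_mem (mul_mem (mul_mem ha' hb') (inv_mem ha')) (inv_mem hb')
  obtain ⟨l, hl, ε, e⟩ := exists_nf good_pos hYp (hle hxd)
  rw [cz_one, one_mul] at e
  have hl72 : ∀ a ∈ l, a < 72 := fun a ha => posList_lt a (hl.subset ha)
  have h1 : ev (gGL w) l = ev (gGL w) [] := by
    rw [← coe_ev_gx hw hn hl72, ← ev_congr (y := π ∘ Y) (fun a ha => hY a (hl72 a ha)),
      ← map_ev π Y l, ← e, MonoidHom.mem_ker.1 hx, ev_nil]
    rfl
  obtain rfl := ev_injective hw hn hl (List.nil_sublist _) h1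
  rw [ev_nil] at e
  rw [show (⟨x, hx⟩ : ↥π.ker) = 1 from Subtype.ext e, orderOf_one] at ho
  norm_num at ho

/-- The kernel of a stem extension is generated by two involutions and an element of order three. -/
theorem exists_gen {Γ : Type u} [Group Γ] [Finite Γ] (σ : Γ →* ↥(twistedE6 K (2 ^ 1)))
    (hσ : IsStemExtension σ) :
    ∃ t a b : ↥σ.ker, t ^ 3 = 1 ∧ a ^ 2 = 1 ∧ b ^ 2 = 1 ∧
      Subgroup.closure ({t, a, b} : Set ↥σ.ker) = ⊤ := by
  classical
  have : Fact (Nat.Prime 2) := ⟨Nat.prime_two⟩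
  have : Fact (Nat.Prime 3) := ⟨Nat.prime_three⟩
  obtain ⟨w, hw⟩ := exists_omega (K := K) (by rw [hn]; norm_num)
  obtain ⟨X, ⟨c₁, c₂⟩, hX, hc₁, hc₂, hS⟩ := exists_lifts hn hw σ hσ
  set N := Subgroup.closure ({c₁, c₂} : Set Γ) with hN
  have hNk : N ≤ σ.ker := (Subgroup.closure_le _).2 (by rintro _ (rfl | rfl) <;> assumption)
  have hNn : N.Normal := ⟨fun n hn' g => by
    rw [Subgroup.mem_center_iff.1 (hσ.2.1 (hNk hn')) g, mul_inv_cancel_right]
    exact hn'⟩
  let mk : Γ →* Γ ⧸ N := QuotientGroup.mk' N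
  let π : Γ ⧸ N →* ↥(twistedE6 K (2 ^ 1)) := QuotientGroup.lift N σ hNk
  have hsur : Function.Surjective mk := QuotientGroup.mk'_surjective N
  have hker : π.ker = σ.ker.map mk := QuotientGroup.ker_lift N σ hNk
  have hπ : IsStemExtension π := by
    refine ⟨fun g => ?_, fun q hq => ?_, fun q hq => ?_⟩
    · obtain ⟨x, rfl⟩ := hσ.1 g
      exact ⟨mk x, rfl⟩
    · rw [hker] at hq
      obtain ⟨x, hx, rfl⟩ := hq
      refine Subgroup.mem_center_iff.2 fun g => ?_
      obtain ⟨y, rfl⟩ := hsur g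
      rw [← map_mul, ← map_mul, Subgroup.mem_center_iff.1 (hσ.2.1 hx) y]
    · rw [hker] at hq
      obtain ⟨x, hx, rfl⟩ := hq
      have h : commutator Γ ≤ (commutator (Γ ⧸ N)).comap mk := by
        rw [commutator_def, Subgroup.commutator_le]
        intro a _ b _
        rw [Subgroup.mem_comap, map_commutatorElement]
        exact Subgroup.commutator_mem_commutator (Subgroup.mem_top _) (Subgroup.mem_top _)
      exact h (hσ.2.2 hx)
  have hm : (mk c₁, mk c₂) = ((1 : Γ ⧸ N), (1 : Γ ⧸ N)) := Prod.ext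
    ((QuotientGroup.eq_one_iff c₁).2 (Subgroup.subset_closure (by simp)))
    ((QuotientGroup.eq_one_iff c₂).2 (Subgroup.subset_closure (by simp)))
  have hS' : Sat (List.range 72) (fun k => mk (X k)) (1, 1) := by
    refine ⟨⟨one_mul 1, one_mul 1, rfl, fun a _ => by simp, fun a _ => by simp⟩, fun a ha => ?_,
      fun a ha b hb hok => ?_⟩
    · show mk (X a) * mk (X a) = 1
      rw [← map_mul, hS.sq a ha, map_one]
    · have e := congrArg mk (hS.swap a ha b hb hok)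
      rw [map_mul, map_mul, map_mul, map_mul, map_cz, map_ev, hm] at e
      exact e
  have hodd := ker_odd hn hw hπ (Y := fun k => mk (X k)) hX hS'
  have hq : 2 ≤ 2 ^ 1 := by norm_num
  obtain ⟨L⟩ := exists_liftData (rankDataE6 hn hq) hπ.1 hπ.2.1 hodd
  obtain ⟨f, hf⟩ := L.exists_onto_ker hπ.2.2
  have hc : Nat.card ↥(rankDataE6 hn hq).diaHom.ker = 3 := by
    rw [card_diaHomE6_ker hn hq]; norm_num
  have := isCyclic_of_prime_card hc
  obtain ⟨v, hv⟩ := IsCyclic.exists_generator (α := ↥(rankDataE6 hn hq).diaHom.ker)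
  have hv3 : v ^ 3 = 1 := hc ▸ pow_card_eq_one'
  obtain ⟨t₀, ht₀, ht₀v⟩ : ∃ t ∈ σ.ker, mk t = (f v : Γ ⧸ N) := by
    exact Subgroup.mem_map.1 (hker.le (f v).2)
  have hN2 : ∀ n ∈ N, n ^ 2 = 1 := by
    intro n hn'
    induction hn' using Subgroup.closure_induction with
    | mem y hy =>
      rcases hy with rfl | rfl <;> rw [pow_two]
      exacts [hS.cen.sq1, hS.cen.sq2]
    | one => exact one_pow _
    | mul y z hy _ h1 h2 =>
      rw [Commute.mul_pow (Subgroup.mem_center_iff.1 (hσ.2.1 (hNk hy)) z).symm, h1, h2, one_mul]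
    | inv y _ h => rw [inv_pow, h, inv_one]
  have h3N : t₀ ^ 3 ∈ N := by
    refine (QuotientGroup.eq_one_iff (t₀ ^ 3)).1 ?_
    show mk (t₀ ^ 3) = 1
    rw [map_pow, ht₀v, ← SubmonoidClass.coe_pow, ← map_pow, hv3, map_one]
    rfl
  refine ⟨⟨t₀ ^ 4, pow_mem ht₀ 4⟩, ⟨c₁, hc₁⟩, ⟨c₂, hc₂⟩, Subtype.ext ?_, Subtype.ext ?_,
    Subtype.ext ?_, eq_top_iff.2 fun z _ => ?_⟩
  · show (t₀ ^ 4) ^ 3 = 1
    rw [← pow_mul, show 4 * 3 = 3 * 2 * 2 from rfl, pow_mul, pow_mul, hN2 _ h3N, one_pow]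
  · show c₁ ^ 2 = 1
    rw [pow_two]; exact hS.cen.sq1
  · show c₂ ^ 2 = 1
    rw [pow_two]; exact hS.cen.sq2
  set M := Subgroup.closure
    ({⟨t₀ ^ 4, pow_mem ht₀ 4⟩, ⟨c₁, hc₁⟩, ⟨c₂, hc₂⟩} : Set ↥σ.ker)
  have hNM : N ≤ M.map σ.ker.subtype := (Subgroup.closure_le _).2 (by
    rintro y (hy | hy) <;> rw [hy]
    exacts [⟨_, Subgroup.subset_closure (Or.inr (Or.inl rfl)), rfl⟩,
      ⟨_, Subgroup.subset_closure (Or.inr (Or.inr rfl)), rfl⟩])
  have htM : t₀ ^ 4 ∈ M.map σ.ker.subtype := ⟨_, Subgroup.subset_closure (Or.inl rfl), rfl⟩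
  have hzm : mk z.1 ∈ π.ker := hker ▸ ⟨z.1, z.2, rfl⟩
  obtain ⟨d, hd⟩ := hf ⟨mk z.1, hzm⟩
  obtain ⟨k, rfl⟩ := Subgroup.mem_zpowers_iff.1 (hv d)
  have ht4 : mk (t₀ ^ 4) = (f v : Γ ⧸ N) := by
    rw [map_pow, ht₀v, ← SubmonoidClass.coe_pow, ← map_pow, pow_succ v 3, hv3, one_mul]
  have hmem : ((t₀ ^ 4) ^ k)⁻¹ * z.1 ∈ N := by
    refine (QuotientGroup.eq_one_iff _).1 ?_
    show mk _ = 1
    rw [map_mul, map_inv, map_zpow, ht4]
    have h := congrArg Subtype.val hd
    rw [map_zpow, SubgroupClass.coe_zpow] at h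
    rw [h, inv_mul_cancel]
  have h := mul_mem (zpow_mem htM k) (hNM hmem)
  rw [mul_inv_cancel_left] at h
  obtain ⟨m, hm', e⟩ := h
  exact (Subtype.ext e : m = z) ▸ hm'

end CfsgLib.Schur.E6Two
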