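import Cfsg.Agent.Lib.Schur.E6Two.Lower
import Cfsg.Agent.Lib.Schur.E6Two.Upper
import Cfsg.Agent.Lib.TwistMult.E6Lower
import Cfsg.Agent.Lib.SchurSmall18.StemTools

/-! The Schur multiplier of ²E₆(2) is the product of cyclic groups of orders three, two and two. -/

set_option autoImplicit false

namespace CfsgLib.Schur.E6Two

open Cfsg Cfsg.Lie CfsgLib.ChevStr

universe u

variable {K : Type u} [Field K] [CharP K 2] [Fintype K] (hn : Fintype.card K = (2 ^ 1) * (2 ^ 1))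
include hn

/-- The twelvefold cover. -/
theorem exists_full_cover : ∃ (Γ : Type u) (_ : Group Γ) (_ : Finite Γ)
    (σ : Γ →* ↥(twistedE6 K (2 ^ 1))), IsStemExtension σ ∧
      Nonempty (σ.ker ≃* Multiplicative (ZMod 3 × ZMod 2 × ZMod 2)) := by
  obtain ⟨Γ, _, _, σ, hσ, ⟨e⟩⟩ := exists_cover hn
  have : Fact (Nat.Prime 2) := ⟨Nat.prime_two⟩
  have : Fact (Nat.Prime 3) := ⟨Nat.prime_three⟩
  obtain ⟨Δ, _, _, τ, hτ, hcτ⟩ :=
    CfsgLib.TwistMult.exists_stemE6 hn (show 2 ≤ 2 ^ 1 by norm_num) (by norm_num)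
  have hcσ : Nat.card σ.ker = 4 := by
    rw [Nat.card_congr e.toEquiv, Nat.card_congr Multiplicative.toAdd, Nat.card_prod, Nat.card_zmod]
  obtain ⟨ρ, hρ, ⟨eρ⟩⟩ := SchurSmall18.exists_join hσ hτ (by rw [hcσ, hcτ]; norm_num)
  let t : τ.ker ≃* Multiplicative (ZMod 3) :=
    mulEquivOfPrimeCardEq (p := 3) hcτ (Nat.card_zmod 3)
  exact ⟨_, inferInstance, inferInstance, ρ, hρ, ⟨((eρ.trans MulEquiv.prodComm).trans
    (MulEquiv.prodCongr t e)).trans (MulEquiv.prodMultiplicative (ZMod 3) (ZMod 2 × ZMod 2)).symm⟩⟩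

/-- Every kernel of a stem extension is an image of the group of order twelve. -/
theorem exists_surjection (Γ : Type u) [Group Γ] [Finite Γ] (σ : Γ →* ↥(twistedE6 K (2 ^ 1)))
    (hσ : IsStemExtension σ) :
    ∃ π : Multiplicative (ZMod 3 × ZMod 2 × ZMod 2) →* σ.ker, Function.Surjective π := by
  obtain ⟨v, u0, u1, hv, hu0, hu1, hgen⟩ := exists_gen hn σ hσ
  let K' := σ.ker
  let _ : CommGroup K' :=
    { (inferInstance : Group K') with
      mul_comm := fun a b => Subtype.ext (Subgroup.mem_center_iff.1 (hσ.2.1 b.2) a) }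
  let hom : ∀ (n : ℕ) (x : K'), x ^ n = 1 → (Multiplicative (ZMod n) →* K') := fun n x hx =>
    AddMonoidHom.toMultiplicativeLeft (ZMod.lift n
      ⟨zmultiplesHom (Additive K') (Additive.ofMul x), by
        show (n : ℤ) • Additive.ofMul x = 0
        rw [← ofMul_zpow, zpow_natCast, hx]
        rfl⟩)
  have hom_one : ∀ (n : ℕ) (x : K') (hx : x ^ n = 1),
      hom n x hx (Multiplicative.ofAdd ((1 : ℤ) : ZMod n)) = x := by
    intro n x hx
    show Additive.toMul (ZMod.lift n _ ((1 : ℤ) : ZMod n)) = x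
    rw [ZMod.lift_coe]
    show Additive.toMul ((1 : ℤ) • Additive.ofMul x) = x
    rw [one_smul]
    rfl
  let g : Multiplicative (ZMod 3) × (Multiplicative (ZMod 2) × Multiplicative (ZMod 2)) →* K' :=
    (hom 3 v hv).coprod ((hom 2 u0 hu0).coprod (hom 2 u1 hu1))
  refine ⟨g.comp ((MonoidHom.prodMap (MonoidHom.id _)
    (MulEquiv.prodMultiplicative (ZMod 2) (ZMod 2)).toMonoidHom).comp
    (MulEquiv.prodMultiplicative (ZMod 3) (ZMod 2 × ZMod 2)).toMonoidHom), ?_⟩
  refine Function.Surjective.comp (g := g) (MonoidHom.range_eq_top.1 ?_) ?_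
  · refine top_le_iff.1 (hgen.ge.trans ((Subgroup.closure_le _).2 ?_))
    rintro y (hy | hy | hy) <;> rw [hy]
    · exact ⟨(Multiplicative.ofAdd ((1 : ℤ) : ZMod 3), 1), by
        simp only [g, MonoidHom.coprod_apply, map_one, mul_one, hom_one]⟩
    · exact ⟨(1, (Multiplicative.ofAdd ((1 : ℤ) : ZMod 2), 1)), by
        simp only [g, MonoidHom.coprod_apply, map_one, mul_one, one_mul, hom_one]⟩
    · exact ⟨(1, (1, Multiplicative.ofAdd ((1 : ℤ) : ZMod 2))), by
        simp only [g, MonoidHom.coprod_apply, map_one, one_mul, hom_one]⟩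
  · intro x
    exact ⟨Multiplicative.ofAdd (x.1.toAdd, (x.2.1.toAdd, x.2.2.toAdd)), rfl⟩

theorem multiplier : HasSchurMultiplier ↥(twistedE6 K (2 ^ 1))
    (Multiplicative (ZMod 3 × ZMod 2 × ZMod 2)) :=
  ⟨exists_full_cover hn, exists_surjection hn⟩

end CfsgLib.Schur.E6Two
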