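import Cfsg.Agent.Lib.Schur.E6Two.Tables
import Mathlib.Algebra.Group.Subgroup.Lattice
import Mathlib.Algebra.BigOperators.Group.List.Basic
import Mathlib.Algebra.Group.Subgroup.Basic
import Mathlib.Algebra.Group.Prod
import Mathlib.Tactic.Group

/-!
Collection in commutator rules of ²E₆(2) twisted by two central involutions: normal forms, the
universal property, and checked images of the rules.
-/

set_option autoImplicit false

namespace CfsgLib.Schur.E6Two

variable {H : Type*} [Group H]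

/-- The value of a word. -/
def ev (y : ℕ → H) (w : List ℕ) : H := (w.map y).prod

@[simp] theorem ev_nil (y : ℕ → H) : ev y [] = 1 := rfl

theorem ev_cons (y : ℕ → H) (a : ℕ) (w : List ℕ) : ev y (a :: w) = y a * ev y w := by simp [ev]

theorem ev_append (y : ℕ → H) (v w : List ℕ) : ev y (v ++ w) = ev y v * ev y w := by simp [ev]

theorem ev_congr {y y' : ℕ → H} {w : List ℕ} (h : ∀ a ∈ w, y a = y' a) : ev y w = ev y' w := by
  rw [ev, ev, List.map_congr_left h]

theorem map_ev {H' : Type*} [Group H'] (φ : H →* H') (y : ℕ → H) (w : List ℕ) :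
    φ (ev y w) = ev (φ ∘ y) w := by
  rw [ev, ev, map_list_prod, List.map_map]

theorem ev_map (y : ℕ → H) (σ : ℕ → ℕ) (w : List ℕ) : ev y (w.map σ) = ev (fun a => y (σ a)) w := by
  rw [ev, ev, List.map_map]
  rfl

theorem commute_ev {y : ℕ → H} {x : H} : ∀ {w : List ℕ}, (∀ a ∈ w, x * y a = y a * x) →
    Commute x (ev y w)
  | [], _ => Commute.one_right x
  | a :: w, h => by
    rw [ev_cons]
    exact Commute.mul_right (h a (List.mem_cons_self ..))
      (commute_ev fun b hb => h b (List.mem_cons_of_mem _ hb))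

/-- A product of powers of the two central elements. -/
def cz (c : H × H) (e : ℕ × ℕ) : H := c.1 ^ e.1 * c.2 ^ e.2

@[simp] theorem cz_zero (c : H × H) : cz c 0 = 1 := by simp [cz]

@[simp] theorem cz_zero' (c : H × H) : cz c (0, 0) = 1 := cz_zero c

theorem map_cz {H' : Type*} [Group H'] (φ : H →* H') (c : H × H) (e : ℕ × ℕ) :
    φ (cz c e) = cz (φ c.1, φ c.2) e := by
  simp [cz]

/-- The conditions on the two central elements. -/
structure Central (L : List ℕ) (y : ℕ → H) (c : H × H) : Prop where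
  sq1 : c.1 * c.1 = 1
  sq2 : c.2 * c.2 = 1
  comm12 : c.1 * c.2 = c.2 * c.1
  comm1 : ∀ a ∈ L, c.1 * y a = y a * c.1
  comm2 : ∀ a ∈ L, c.2 * y a = y a * c.2

theorem Central.mono {L L' : List ℕ} {y : ℕ → H} {c : H × H} (h : Central L y c)
    (hL : ∀ a ∈ L', a ∈ L) : Central L' y c :=
  ⟨h.sq1, h.sq2, h.comm12, fun a ha => h.comm1 a (hL a ha), fun a ha => h.comm2 a (hL a ha)⟩

theorem Central.cz_add {L : List ℕ} {y : ℕ → H} {c : H × H} (h : Central L y c) (d e : ℕ × ℕ) :
    cz c (d + e) = cz c d * cz c e := by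
  have hc : Commute (c.1 ^ e.1) (c.2 ^ d.2) := (show Commute c.1 c.2 from h.comm12).pow_pow _ _
  rw [cz, cz, cz, Prod.fst_add, Prod.snd_add, pow_add, pow_add, mul_assoc, mul_assoc,
    ← mul_assoc (c.1 ^ e.1), hc.eq, mul_assoc]

theorem Central.cz_parity {L : List ℕ} {y : ℕ → H} {c : H × H} (h : Central L y c) {d e : ℕ × ℕ}
    (h1 : d.1 % 2 = e.1 % 2) (h2 : d.2 % 2 = e.2 % 2) : cz c d = cz c e := by
  have p : ∀ (x : H) (n : ℕ), x * x = 1 → x ^ n = x ^ (n % 2) := fun x n hx => by
    conv_lhs => rw [← Nat.div_add_mod n 2, pow_add, pow_mul, sq, hx, one_pow, one_mul]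
  rw [cz, cz, p _ d.1 h.sq1, p _ d.2 h.sq2, p _ e.1 h.sq1, p _ e.2 h.sq2, h1, h2]

theorem Central.cz_self {L : List ℕ} {y : ℕ → H} {c : H × H} (h : Central L y c) (d : ℕ × ℕ) :
    cz c d * cz c d = 1 := by
  rw [← h.cz_add, h.cz_parity (e := 0) (by simp only [Prod.fst_add]; simp [← two_mul])
    (by simp only [Prod.snd_add]; simp [← two_mul]), cz_zero]

theorem Central.commute_y {L : List ℕ} {y : ℕ → H} {c : H × H} (h : Central L y c) (d : ℕ × ℕ)
    {a : ℕ} (ha : a ∈ L) : Commute (cz c d) (y a) :=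
  Commute.mul_left ((show Commute c.1 (y a) from h.comm1 a ha).pow_left _)
    ((show Commute c.2 (y a) from h.comm2 a ha).pow_left _)

theorem Central.commute_ev {L : List ℕ} {y : ℕ → H} {c : H × H} (h : Central L y c) (d : ℕ × ℕ)
    {w : List ℕ} (hw : ∀ a ∈ w, a ∈ L) : Commute (cz c d) (ev y w) :=
  E6Two.commute_ev fun a ha => (h.commute_y d (hw a ha)).eq

/-- A list in which the rules only produce later indices. -/
def Good : List ℕ → Prop
  | [] => True
  | k :: T => (∀ a ∈ T, ok k a = true ∧ ∀ m ∈ tab k a, m ∈ T) ∧ Good T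

instance decidableGood : ∀ L, Decidable (Good L)
  | [] => inferInstanceAs (Decidable True)
  | k :: T =>
    have := decidableGood T
    inferInstanceAs (Decidable (_ ∧ _))

theorem Good.closed : ∀ {L : List ℕ}, Good L → ∀ a ∈ L, ∀ b ∈ L, a ≠ b →
    ok a b = true ∧ ∀ m ∈ tab a b, m ∈ L
  | [], _, a, ha, _, _, _ => absurd ha List.not_mem_nil
  | k :: T, hL, a, ha, b, hb, hab => by
    obtain ⟨hk, hT⟩ := hL
    rcases List.mem_cons.1 ha with h1 | h1 <;> rcases List.mem_cons.1 hb with h2 | h2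
    · exact absurd (h1.trans h2.symm) hab
    · subst h1
      exact ⟨(hk b h2).1, fun m hm => List.mem_cons_of_mem _ ((hk b h2).2 m hm)⟩
    · subst h2
      obtain ⟨h3, h4, -, -⟩ := tab_facts (hk a h1).1
      exact ⟨h3, fun m hm => List.mem_cons_of_mem _ ((hk a h1).2 m (h4 ▸ hm))⟩
    · exact ⟨(hT.closed a h1 b h2 hab).1, fun m hm =>
        List.mem_cons_of_mem _ ((hT.closed a h1 b h2 hab).2 m hm)⟩

theorem Good.closed_ok {L : List ℕ} (hL : Good L) {a b : ℕ} (ha : a ∈ L) (hb : b ∈ L)
    (h : ok b a = true) : ∀ m ∈ tab b a, m ∈ L :=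
  (hL.closed b hb a ha (ok_ne h)).2

theorem Good.filter {p : ℕ → Bool} : ∀ {L : List ℕ}, Good L →
    (∀ a ∈ L, ∀ b ∈ L, ok a b = true → p a = true → p b = true → ∀ m ∈ tab a b, p m = true) →
    Good (L.filter p)
  | [], _, _ => by simp [Good]
  | k :: T, hL, h => by
    have hT : Good (T.filter p) := hL.2.filter fun a ha b hb =>
      h a (List.mem_cons_of_mem _ ha) b (List.mem_cons_of_mem _ hb)
    by_cases hp : p k = true
    · rw [List.filter_cons_of_pos hp]
      refine ⟨fun a ha => ?_, hT⟩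
      obtain ⟨ha, hpa⟩ := List.mem_filter.1 ha
      exact ⟨(hL.1 a ha).1, fun m hm => List.mem_filter.2 ⟨(hL.1 a ha).2 m hm,
        h k (List.mem_cons_self ..) a (List.mem_cons_of_mem _ ha) (hL.1 a ha).1 hp hpa m hm⟩⟩
    · rw [List.filter_cons_of_neg hp]
      exact hT

/-- The twisted rules on a list. -/
structure Sat (L : List ℕ) (y : ℕ → H) (c : H × H) : Prop where
  cen : Central L y c
  sq : ∀ a ∈ L, y a * y a = 1
  swap : ∀ a ∈ L, ∀ b ∈ L, ok b a = true →
    y a * y b = y b * y a * ev y (tab b a) * cz c (twist b a)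

theorem Sat.mono {L L' : List ℕ} {y : ℕ → H} {c : H × H} (h : Sat L y c) (hL : ∀ a ∈ L', a ∈ L) :
    Sat L' y c :=
  ⟨h.cen.mono hL, fun a ha => h.sq a (hL a ha), fun a ha b hb => h.swap a (hL a ha) b (hL b hb)⟩

theorem Sat.prod {H' : Type*} [Group H'] {L : List ℕ} {y : ℕ → H} {c : H × H} {y' : ℕ → H'}
    {c' : H' × H'} (h : Sat L y c) (h' : Sat L y' c') :
    Sat L (fun a => (y a, y' a)) ((c.1, c'.1), (c.2, c'.2)) := by
  have e : ∀ w : List ℕ, ev (fun a => (y a, y' a)) w = (ev y w, ev y' w) := fun w => by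
    induction w with
    | nil => rfl
    | cons a w ih => rw [ev_cons, ih, ev_cons, ev_cons]; rfl
  exact ⟨⟨Prod.ext h.cen.sq1 h'.cen.sq1, Prod.ext h.cen.sq2 h'.cen.sq2,
      Prod.ext h.cen.comm12 h'.cen.comm12,
      fun a ha => Prod.ext (h.cen.comm1 a ha) (h'.cen.comm1 a ha),
      fun a ha => Prod.ext (h.cen.comm2 a ha) (h'.cen.comm2 a ha)⟩,
    fun a ha => Prod.ext (h.sq a ha) (h'.sq a ha), fun a ha b hb hok => by
      rw [e]; exact Prod.ext (h.swap a ha b hb hok) (h'.swap a ha b hb hok)⟩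

/-- The ordered products, up to the central elements. -/
def NF (L : List ℕ) (y : ℕ → H) (c : H × H) : Set H :=
  {g | ∃ l : List ℕ, l.Sublist L ∧ ∃ n : ℕ × ℕ, g = cz c n * ev y l}

theorem left_mul_cz {L : List ℕ} {y : ℕ → H} {c : H × H} {g : H} (hC : Central L y c)
    (hg : g ∈ NF L y c) (m : ℕ × ℕ) : cz c m * g ∈ NF L y c := by
  obtain ⟨l, hl, n, rfl⟩ := hg
  exact ⟨l, hl, m + n, by rw [hC.cz_add, mul_assoc]⟩

theorem left_mul : ∀ {L : List ℕ} {y : ℕ → H} {c : H × H}, Good L → Sat L y c →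
    ∀ g ∈ NF L y c, ∀ a ∈ L, y a * g ∈ NF L y c
  | [], _, _, _, _, _, _, a, ha => absurd ha List.not_mem_nil
  | k :: T, y, c, hL, hS, g, ⟨l, hl, n, hg⟩, a, ha => by
    have hST : Sat T y c := hS.mono fun b hb => List.mem_cons_of_mem _ hb
    subst hg
    rw [← mul_assoc, ← (hS.cen.commute_y n ha).eq, mul_assoc]
    apply left_mul_cz hS.cen
    have up : ∀ {h : H}, h ∈ NF T y c → h ∈ NF (k :: T) y c := by
      rintro h ⟨l', hl', n', rfl⟩
      exact ⟨l', hl'.cons k, n', rfl⟩
    have upk : ∀ {h : H}, h ∈ NF T y c → y k * h ∈ NF (k :: T) y c := by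
      rintro h ⟨l', hl', n', rfl⟩
      refine ⟨k :: l', hl'.cons_cons k, n', ?_⟩
      rw [ev_cons, ← mul_assoc, ← mul_assoc, (hS.cen.commute_y n' (List.mem_cons_self ..)).eq]
    have hmul : ∀ (w : List ℕ), (∀ m ∈ w, m ∈ T) → ∀ h ∈ NF T y c, ev y w * h ∈ NF T y c := by
      intro w hw h hh
      induction w with
      | nil => simpa using hh
      | cons b w ih =>
        rw [ev_cons, mul_assoc]
        exact left_mul hL.2 hST _ (ih fun m hm => hw m (List.mem_cons_of_mem _ hm)) b
          (hw b (List.mem_cons_self ..))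
    cases hl with
    | cons _ hl' =>
      have hlT : ev y l ∈ NF T y c := ⟨l, hl', 0, by simp⟩
      rcases List.mem_cons.1 ha with rfl | ha
      · exact upk hlT
      · exact up (left_mul hL.2 hST _ hlT a ha)
    | cons_cons _ hl' =>
      rename_i l'
      have hlT : ev y l' ∈ NF T y c := ⟨l', hl', 0, by simp⟩
      rw [ev_cons, ← mul_assoc]
      rcases List.mem_cons.1 ha with rfl | ha
      · rw [hS.sq a (List.mem_cons_self ..), one_mul]
        exact up hlT
      · rw [hS.swap a (List.mem_cons_of_mem _ ha) k (List.mem_cons_self ..) (hL.1 a ha).1]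
        simp only [mul_assoc]
        apply upk
        apply left_mul hL.2 hST _ _ a ha
        exact hmul _ (hL.1 a ha).2 _ (left_mul_cz hST.cen hlT _)

/-- The generators. -/
def gens (L : List ℕ) (y : ℕ → H) (c : H × H) : Subgroup H :=
  Subgroup.closure ({c.1, c.2} ∪ {g | ∃ a ∈ L, g = y a})

theorem mem_gens {L : List ℕ} (y : ℕ → H) (c : H × H) {a : ℕ} (ha : a ∈ L) : y a ∈ gens L y c :=
  Subgroup.subset_closure (Or.inr ⟨a, ha, rfl⟩)

theorem fst_mem_gens (L : List ℕ) (y : ℕ → H) (c : H × H) : c.1 ∈ gens L y c :=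
  Subgroup.subset_closure (Or.inl (Or.inl rfl))

theorem snd_mem_gens (L : List ℕ) (y : ℕ → H) (c : H × H) : c.2 ∈ gens L y c :=
  Subgroup.subset_closure (Or.inl (Or.inr rfl))

theorem cz_mem_gens (L : List ℕ) (y : ℕ → H) (c : H × H) (e : ℕ × ℕ) : cz c e ∈ gens L y c :=
  mul_mem (pow_mem (fst_mem_gens L y c) _) (pow_mem (snd_mem_gens L y c) _)

theorem ev_mem_gens {L : List ℕ} (y : ℕ → H) (c : H × H) {w : List ℕ} (hw : ∀ a ∈ w, a ∈ L) :
    ev y w ∈ gens L y c :=
  Subgroup.list_prod_mem _ fun x hx => by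
    obtain ⟨a, ha, rfl⟩ := List.mem_map.1 hx
    exact mem_gens y c (hw a ha)

theorem mem_NF_of_gens {L : List ℕ} {y : ℕ → H} {c : H × H} (hL : Good L) (hS : Sat L y c) {g : H}
    (hg : g ∈ gens L y c) : g ∈ NF L y c := by
  have i1 : c.1⁻¹ = c.1 := inv_eq_of_mul_eq_one_right hS.cen.sq1
  have i2 : c.2⁻¹ = c.2 := inv_eq_of_mul_eq_one_right hS.cen.sq2
  have e1 : cz c (1, 0) = c.1 := by simp [cz]
  have e2 : cz c (0, 1) = c.2 := by simp [cz]
  refine Subgroup.closure_induction_left (p := fun g _ => g ∈ NF L y c)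
    ⟨[], List.nil_sublist L, 0, by simp⟩ ?_ ?_ hg
  · rintro x ((rfl | rfl) | ⟨a, ha, rfl⟩) z - hz
    · rw [← e1]; exact left_mul_cz hS.cen hz _
    · rw [← e2]; exact left_mul_cz hS.cen hz _
    · exact left_mul hL hS z hz a ha
  · rintro x ((rfl | rfl) | ⟨a, ha, rfl⟩) z - hz
    · rw [i1, ← e1]; exact left_mul_cz hS.cen hz _
    · rw [i2, ← e2]; exact left_mul_cz hS.cen hz _
    · rw [inv_eq_of_mul_eq_one_right (hS.sq a ha)]
      exact left_mul hL hS z hz a ha

/-- The exponents given by two bits. -/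
def bits (ε : Bool × Bool) : ℕ × ℕ := (if ε.1 then 1 else 0, if ε.2 then 1 else 0)

theorem exists_nf {L : List ℕ} {y : ℕ → H} {c : H × H} (hL : Good L) (hS : Sat L y c) {g : H}
    (hg : g ∈ gens L y c) : ∃ l : List ℕ, l.Sublist L ∧ ∃ ε : Bool × Bool,
      g = cz c (bits ε) * ev y l := by
  obtain ⟨l, hl, n, rfl⟩ := mem_NF_of_gens hL hS hg
  refine ⟨l, hl, (decide (n.1 % 2 = 1), decide (n.2 % 2 = 1)), ?_⟩
  congr 1
  refine hS.cen.cz_parity ?_ ?_
  · rcases Nat.mod_two_eq_zero_or_one n.1 with h | h <;> simp [bits, h]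
  · rcases Nat.mod_two_eq_zero_or_one n.2 with h | h <;> simp [bits, h]

/-- The ordered products are distinct. -/
def Inj (L : List ℕ) (y : ℕ → H) (c : H × H) : Prop :=
  ∀ l l' : List ℕ, l.Sublist L → l'.Sublist L → ∀ ε ε' : Bool × Bool,
    cz c (bits ε) * ev y l = cz c (bits ε') * ev y l' → ε = ε' ∧ l = l'

/-- Where the ordered products are distinct the rules are a presentation. -/
theorem universal {H' : Type*} [Group H'] {L : List ℕ} {y : ℕ → H} {c : H × H} {y' : ℕ → H'}
    {c' : H' × H'} (hL : Good L) (hS : Sat L y c) (hI : Inj L y c) (hS' : Sat L y' c') :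
    ∃ φ : ↥(gens L y c) →* H', (∀ a (ha : a ∈ L), φ ⟨y a, mem_gens y c ha⟩ = y' a) ∧
      φ ⟨c.1, fst_mem_gens L y c⟩ = c'.1 ∧ φ ⟨c.2, snd_mem_gens L y c⟩ = c'.2 := by
  let Y : ℕ → H × H' := fun a => (y a, y' a)
  let Cc : (H × H') × (H × H') := ((c.1, c'.1), (c.2, c'.2))
  let K := gens L Y Cc
  let f : K →* gens L y c := ((MonoidHom.fst H H').comp K.subtype).codRestrict _ fun x => by
    have hle : K ≤ (gens L y c).comap (MonoidHom.fst H H') := by
      refine (Subgroup.closure_le _).2 ?_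
      rintro z ((rfl | rfl) | ⟨a, ha, rfl⟩)
      · exact fst_mem_gens L y c
      · exact snd_mem_gens L y c
      · exact mem_gens y c ha
    exact hle x.2
  have hsurj : Function.Surjective f := by
    intro x
    have hle : gens L y c ≤ K.map (MonoidHom.fst H H') := by
      refine (Subgroup.closure_le _).2 ?_
      rintro z ((rfl | rfl) | ⟨a, ha, rfl⟩)
      · exact ⟨Cc.1, fst_mem_gens L Y Cc, rfl⟩
      · exact ⟨Cc.2, snd_mem_gens L Y Cc, rfl⟩
      · exact ⟨Y a, mem_gens Y Cc ha, rfl⟩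
    obtain ⟨z, hz, e⟩ := hle x.2
    exact ⟨⟨z, hz⟩, Subtype.ext e⟩
  have hinj : Function.Injective f := by
    refine (injective_iff_map_eq_one f).2 fun x hx => Subtype.ext ?_
    have h1 : (x : H × H').1 = 1 := congrArg Subtype.val hx
    obtain ⟨l, hl, ε, hx'⟩ := exists_nf hL (hS.prod hS') x.2
    have h2 : cz c (bits ε) * ev y l = cz c (bits (false, false)) * ev y [] := by
      have e1 : ev y l = (ev Y l).1 := (map_ev (MonoidHom.fst H H') Y l).symm
      have e2 : cz c (bits ε) = (cz Cc (bits ε)).1 :=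
        (map_cz (MonoidHom.fst H H') Cc (bits ε)).symm
      rw [hx'] at h1
      rw [e1, e2, show bits (false, false) = ((0 : ℕ), (0 : ℕ)) from rfl, cz_zero', ev_nil, mul_one]
      exact h1
    obtain ⟨rfl, rfl⟩ := hI l [] hl (List.nil_sublist L) ε _ h2
    rw [hx', show bits (false, false) = ((0 : ℕ), (0 : ℕ)) from rfl, cz_zero', ev_nil, mul_one]
    rfl
  let g := (MulEquiv.ofBijective f ⟨hinj, hsurj⟩).symm
  refine ⟨((MonoidHom.snd H H').comp K.subtype).comp g.toMonoidHom, fun a ha => ?_, ?_, ?_⟩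
  · have : g ⟨y a, mem_gens y c ha⟩ = ⟨Y a, mem_gens Y Cc ha⟩ :=
      (MulEquiv.symm_apply_eq _).2 rfl
    show ((g _ : K) : H × H').2 = _
    rw [this]
  · have : g ⟨c.1, fst_mem_gens L y c⟩ = ⟨Cc.1, fst_mem_gens L Y Cc⟩ :=
      (MulEquiv.symm_apply_eq _).2 rfl
    show ((g _ : K) : H × H').2 = _
    rw [this]
  · have : g ⟨c.2, snd_mem_gens L y c⟩ = ⟨Cc.2, snd_mem_gens L Y Cc⟩ :=
      (MulEquiv.symm_apply_eq _).2 rfl
    show ((g _ : K) : H × H').2 = _
    rw [this]

/-- Left multiplication of a sorted word by a word, with fuel. -/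
def mulNF : ℕ → List ℕ → List ℕ → Option (List ℕ × (ℕ × ℕ))
  | 0, _, _ => none
  | _ + 1, [], g => some (g, (0, 0))
  | f + 1, a :: w, g =>
    match mulNF f w g with
    | none => none
    | some ([], e) => some ([a], e)
    | some (k :: z, e) =>
      if Nat.blt a k then some (a :: k :: z, e)
      else if Nat.beq a k then some (z, e)
      else if ok k a then
        match mulNF f (a :: tab k a) z with
        | none => none
        | some (z', e') =>
          some (k :: z', (e.1 + e'.1 + (twist k a).1, e.2 + e'.2 + (twist k a).2))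
      else none

theorem mulNF_sound {L : List ℕ} {y : ℕ → H} {c : H × H} (hL : Good L) (hS : Sat L y c) :
    ∀ (f : ℕ) (w g g' : List ℕ) (e : ℕ × ℕ), (∀ a ∈ w, a ∈ L) → (∀ a ∈ g, a ∈ L) →
      mulNF f w g = some (g', e) → (∀ a ∈ g', a ∈ L) ∧ ev y w * ev y g = cz c e * ev y g' := by
  intro f
  induction f with
  | zero => intro w g g' e _ _ h; simp [mulNF] at h
  | succ f ih =>
    intro w g g' e hw hg h
    cases w with
    | nil =>
      simp only [mulNF, Option.some.injEq, Prod.mk.injEq] at h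
      obtain ⟨rfl, rfl⟩ := h
      exact ⟨hg, by simp⟩
    | cons a w =>
      have ha : a ∈ L := hw a (List.mem_cons_self ..)
      have hac : ∀ n : ℕ × ℕ, y a * cz c n = cz c n * y a := fun n =>
        (hS.cen.commute_y n ha).eq.symm
      simp only [mulNF] at h
      split at h
      · simp at h
      · next e₁ h1 =>
        obtain ⟨-, e1⟩ := ih w g _ _ (fun b hb => hw b (List.mem_cons_of_mem _ hb)) hg h1
        simp only [Option.some.injEq, Prod.mk.injEq] at h
        obtain ⟨rfl, rfl⟩ := h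
        refine ⟨fun b hb => by rw [List.mem_singleton] at hb; subst hb; exact ha, ?_⟩
        rw [ev_cons, mul_assoc, e1, ← mul_assoc, hac, mul_assoc, ev_cons]
      · next k z e₁ h1 =>
        obtain ⟨hkz, e1⟩ := ih w g _ _ (fun b hb => hw b (List.mem_cons_of_mem _ hb)) hg h1
        have hk : k ∈ L := hkz k (List.mem_cons_self ..)
        have hz : ∀ b ∈ z, b ∈ L := fun b hb => hkz b (List.mem_cons_of_mem _ hb)
        rw [ev_cons, mul_assoc, e1, ← mul_assoc, hac, mul_assoc]
        split at h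
        · simp only [Option.some.injEq, Prod.mk.injEq] at h
          obtain ⟨rfl, rfl⟩ := h
          refine ⟨fun b hb => ?_, by rw [ev_cons y a]⟩
          rcases List.mem_cons.1 hb with rfl | hb
          · exact ha
          · exact hkz b hb
        · split at h
          · next hak =>
            simp only [Option.some.injEq, Prod.mk.injEq] at h
            obtain ⟨rfl, rfl⟩ := h
            obtain rfl := Nat.eq_of_beq_eq_true hak
            exact ⟨hz, by rw [ev_cons, ← mul_assoc (y a), hS.sq a ha, one_mul]⟩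
          · split at h
            · next hok =>
              split at h
              · simp at h
              · next z' e₂ h2 =>
                have hwL : ∀ b ∈ a :: tab k a, b ∈ L := fun b hb =>
                  (List.mem_cons.1 hb).elim (fun e => e ▸ ha) (hL.closed_ok ha hk hok b)
                obtain ⟨hz', e2⟩ := ih (a :: tab k a) z _ _ hwL hz h2
                simp only [Option.some.injEq, Prod.mk.injEq] at h
                obtain ⟨rfl, rfl⟩ := h
                refine ⟨fun b hb => (List.mem_cons.1 hb).elim (fun e => e ▸ hk) (hz' b), ?_⟩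
                have hkc : ∀ n : ℕ × ℕ, y k * cz c n = cz c n * y k := fun n =>
                  (hS.cen.commute_y n hk).eq.symm
                calc cz c e₁ * (y a * ev y (k :: z))
                    = cz c e₁ * (y a * y k * ev y z) := by rw [ev_cons]; simp only [mul_assoc]
                  _ = cz c e₁ * (y k * (ev y (a :: tab k a) * cz c (twist k a)) * ev y z) := by
                      rw [hS.swap a ha k hk hok, ev_cons]; simp only [mul_assoc]
                  _ = cz c e₁ * (y k * cz c (twist k a) * (ev y (a :: tab k a) * ev y z)) := by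
                      rw [← (hS.cen.commute_ev (twist k a) hwL).eq]; simp only [mul_assoc]
                  _ = cz c e₁ * (cz c (twist k a) * (y k * cz c e₂ * ev y z')) := by
                      rw [e2, hkc]; simp only [mul_assoc]
                  _ = _ := by
                      rw [hkc, ev_cons,
                        show ((e₁.1 + e₂.1 + (twist k a).1, e₁.2 + e₂.2 + (twist k a).2) : ℕ × ℕ) =
                          e₁ + (twist k a + e₂) from Prod.ext
                            (by simp only [Prod.fst_add]; omega) (by simp only [Prod.snd_add]; omega)]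
                      simp only [hS.cen.cz_add, mul_assoc]
            · simp at h

/-- Two words have the same value up to `cz c e`. -/
def same (w w' : List ℕ) (e : ℕ × ℕ) : Bool :=
  match mulNF 300 w [], mulNF 300 w' [] with
  | some (g, m), some (g', m') => g == g' && Nat.beq ((m.1 + e.1) % 2) (m'.1 % 2) &&
      Nat.beq ((m.2 + e.2) % 2) (m'.2 % 2)
  | _, _ => false

theorem same_sound {L : List ℕ} {y : ℕ → H} {c : H × H} (hL : Good L) (hS : Sat L y c)
    {w w' : List ℕ} {e : ℕ × ℕ} (hw : ∀ a ∈ w, a ∈ L) (hw' : ∀ a ∈ w', a ∈ L)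
    (h : same w w' e = true) : ev y w * cz c e = ev y w' := by
  unfold same at h
  split at h
  · next g m g' m' h1 h2 =>
    simp only [Bool.and_eq_true, beq_iff_eq] at h
    obtain ⟨⟨rfl, hp1⟩, hp2⟩ := h
    obtain ⟨-, e1⟩ := mulNF_sound hL hS _ w [] _ _ hw (by simp) h1
    obtain ⟨hg, e2⟩ := mulNF_sound hL hS _ w' [] _ _ hw' (by simp) h2
    rw [ev_nil, mul_one] at e1 e2
    rw [e1, e2, mul_assoc, ← (hS.cen.commute_ev e hg).eq, ← mul_assoc, ← hS.cen.cz_add,
      hS.cen.cz_parity (d := m + e) (e := m') (by simpa using Nat.eq_of_beq_eq_true hp1)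
        (by simpa using Nat.eq_of_beq_eq_true hp2)]
  · simp at h

/-! ### Images of the rules -/

/-- The exponent of the image of a word. -/
def wordExp (ε : ℕ → ℕ × ℕ) : List ℕ → ℕ × ℕ
  | [] => (0, 0)
  | a :: w => ((ε a).1 + (wordExp ε w).1, (ε a).2 + (wordExp ε w).2)

theorem word_eval {L : List ℕ} {y y' : ℕ → H} {c : H × H} (hC : Central L y c) {f : ℕ → List ℕ}
    {ε : ℕ → ℕ × ℕ} : ∀ {w : List ℕ},
    (∀ a ∈ w, y' a = ev y (f a) * cz c (ε a) ∧ ∀ b ∈ f a, b ∈ L) →
      ev y' w = ev y (w.flatMap f) * cz c (wordExp ε w)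
  | [], _ => by simp [wordExp]
  | a :: w, h => by
    have h2 : ∀ b ∈ w.flatMap f, b ∈ L := fun b hb => by
      obtain ⟨d, hd, hb⟩ := List.mem_flatMap.1 hb
      exact (h d (List.mem_cons_of_mem _ hd)).2 b hb
    have ih := word_eval hC (f := f) (ε := ε) (w := w) fun b hb => h b (List.mem_cons_of_mem _ hb)
    rw [ev_cons, ih, (h a (List.mem_cons_self ..)).1, List.flatMap_cons, ev_append,
      show wordExp ε (a :: w) = ε a + wordExp ε w from rfl, hC.cz_add, mul_assoc,
      ← mul_assoc (cz c (ε a)), (hC.commute_ev (ε a) h2).eq]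
    simp only [mul_assoc]

/-- The checks making `a ↦ f a` (with exponents `ε`) respect the rules on `L`. -/
def imgOK (f : ℕ → List ℕ) (ε : ℕ → ℕ × ℕ) (L : List ℕ) : Bool :=
  L.all fun a => same (f a ++ f a) [] (0, 0) &&
    L.all fun b => !(ok b a) || same (f a ++ f b) (f b ++ f a ++ (tab b a).flatMap f)
      ((wordExp ε (tab b a)).1 + (twist b a).1, (wordExp ε (tab b a)).2 + (twist b a).2)

theorem sat_of_imgOK {L L0 : List ℕ} {y : ℕ → H} {c : H × H} (hG : Good L) (hS : Sat L y c)
    (hG0 : Good L0) {f : ℕ → List ℕ} {ε : ℕ → ℕ × ℕ} (hf : ∀ a ∈ L0, ∀ b ∈ f a, b ∈ L)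
    (h : imgOK f ε L0 = true) : Sat L0 (fun a => ev y (f a) * cz c (ε a)) c := by
  have hC := hS.cen
  simp only [imgOK, List.all_eq_true, Bool.and_eq_true, Bool.or_eq_true, Bool.not_eq_eq_eq_not,
    Bool.not_true] at h
  have hcomm : ∀ x : H, (∀ a ∈ L, x * y a = y a * x) → (x * c.1 = c.1 * x) → (x * c.2 = c.2 * x) →
      ∀ a ∈ L0, x * (ev y (f a) * cz c (ε a)) = ev y (f a) * cz c (ε a) * x := fun x hx h1 h2 a ha =>
    ((E6Two.commute_ev fun b hb => hx b (hf a ha b hb)).mul_right
      (Commute.mul_right ((show Commute x c.1 from h1).pow_right _)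
        ((show Commute x c.2 from h2).pow_right _))).eq
  have hpair : ∀ a ∈ L0, ∀ b ∈ L0, ev y (f a) * cz c (ε a) * (ev y (f b) * cz c (ε b)) =
      ev y (f a ++ f b) * cz c (ε a + ε b) := fun a ha b hb => by
    rw [ev_append, hC.cz_add, mul_assoc, ← mul_assoc (cz c (ε a)),
      (hC.commute_ev (ε a) (hf b hb)).eq]
    simp only [mul_assoc]
  refine ⟨⟨hC.sq1, hC.sq2, hC.comm12, hcomm c.1 hC.comm1 rfl hC.comm12,
    hcomm c.2 hC.comm2 hC.comm12.symm rfl⟩, fun a ha => ?_, fun a ha b hb hok => ?_⟩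
  · rw [hpair a ha a ha, hC.cz_add, hC.cz_self, mul_one]
    have := same_sound hG hS (fun d hd => (List.mem_append.1 hd).elim (hf a ha d) (hf a ha d))
      (by simp) (h a ha).1
    simpa using this
  · have htb : ∀ d ∈ (tab b a).flatMap f, d ∈ L := fun d hd => by
      obtain ⟨m, hm, hd⟩ := List.mem_flatMap.1 hd
      exact hf m (hG0.closed_ok ha hb hok m hm) d hd
    have e := same_sound hG hS (w := f a ++ f b) (w' := f b ++ f a ++ (tab b a).flatMap f)
      (fun d hd => (List.mem_append.1 hd).elim (hf a ha d) (hf b hb d))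
      (fun d hd => (List.mem_append.1 hd).elim
        (fun hd => (List.mem_append.1 hd).elim (hf b hb d) (hf a ha d)) (htb d))
      (((h a ha).2 b hb).resolve_left (by simp [hok]))
    rw [show ((wordExp ε (tab b a)).1 + (twist b a).1, (wordExp ε (tab b a)).2 + (twist b a).2) =
      wordExp ε (tab b a) + twist b a from rfl] at e
    rw [hpair a ha b hb, hpair b hb a ha, word_eval hC (y' := fun m => ev y (f m) * cz c (ε m))
      fun m hm => ⟨rfl, hf m (hG0.closed_ok ha hb hok m hm)⟩]
    have key : ∀ P Q R : H, ∀ d x t : ℕ × ℕ, Commute (cz c d) R → P * cz c (x + t) = Q * R →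
        P * cz c d = Q * cz c d * (R * cz c x) * cz c t := by
      intro P Q R d x t hR hP
      have h1 : Q * cz c d * (R * cz c x) * cz c t = Q * R * (cz c d * cz c (x + t)) := by
        rw [hC.cz_add, mul_assoc Q (cz c d), ← mul_assoc (cz c d), hR.eq]
        simp only [mul_assoc]
      rw [h1, ← hP, mul_assoc, ← hC.cz_add, ← hC.cz_add, hC.cz_parity (d := x + t + (d + (x + t))) (e := d)
        (by simp only [Prod.fst_add]; omega) (by simp only [Prod.snd_add]; omega)]
    rw [add_comm (ε b) (ε a)]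
    exact key _ _ _ _ _ _ (hC.commute_ev _ htb) (by rw [e, ev_append])

end CfsgLib.Schur.E6Two
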