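import Cfsg.Agent.Lib.Schur.E6Two.GroupSide

/-!
The torus of ²E₆(2) on the rules: an element of the torus sends each generator to an ordered product
of at most two generators, and these images, with suitable exponents of the central elements, satisfy
the rules again.
-/

set_option autoImplicit false
set_option maxRecDepth 100000

namespace CfsgLib.Schur.E6Two

open Cfsg.Lie CfsgLib.ChevStr CfsgLib.Twisted
open scoped MatrixGroups

/-- The weights of the indices under the torus, modulo three. -/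
def wtS (q : ℕ) : ℕ := (0x1a1490a469861944a522986196250928580 >>> (2 * q)) % 4

/-- The exponent of `ω` in the weight of an index. -/
def kT (e q : ℕ) : ℕ := (e * wtS q) % 3

/-- The image of an index under a torus element. -/
def timg (e q : ℕ) : List ℕ :=
  if Nat.beq (kT e q) 0 then [q] else if Nat.beq (kT e q) 1 then [rho q] else [q, rho q]

/-- The exponents of the central elements in the image. -/
def teps (e q : ℕ) : ℕ × ℕ :=
  (((if Nat.beq e 1 then 0xc231a480000000000 else if Nat.beq e 2 then 0x1190a4940000000000 else 0)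
    >>> q) % 2, 0)

theorem timg_ok : ((List.range 3).all fun e => imgOK (timg e) (teps e) posList) = true := by
  decide +kernel

theorem timg_pos : ∀ e : Fin 3, ∀ q ∈ posList, ∀ b ∈ timg e q, b ∈ posList := by decide +kernel

theorem weight_check : ∀ i j : Fin 3, ∀ q : Fin 72,
    ((i.val : ℤ) * (chevE6.cartan 0 (rt q) + 2 * chevE6.cartan 5 (rt q)) +
      (j.val : ℤ) * (chevE6.cartan 2 (rt q) + 2 * chevE6.cartan 4 (rt q))) % 3 =
        (kT ((2 * (i.val + j.val)) % 3) q : ℤ) ∧
    kT ((2 * (i.val + j.val)) % 3) (rho q) = 2 * kT ((2 * (i.val + j.val)) % 3) q % 3 := by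
  decide +kernel

section field

variable {K : Type*} [Field K] [CharP K 2] {w : K} (hw : w * w = w + 1) [Fintype K]
  (hn : Fintype.card K = (2 ^ 1) * (2 ^ 1))

include hw

omit [Fintype K] in
theorem mul_succ_eq_one : w * (w + 1) = 1 := by
  linear_combination hw + w * (CharTwo.two_eq_zero : (2 : K) = 0)

/-- The cube root of unity as a unit. -/
def omU : Kˣ := ⟨w, w + 1, mul_succ_eq_one hw, by rw [mul_comm]; exact mul_succ_eq_one hw⟩

omit [Fintype K] in
theorem omU_cube : omU hw ^ 3 = 1 := by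
  refine Units.ext ?_
  rw [Units.val_pow_eq_pow_val, Units.val_one, show ((omU hw : Kˣ) : K) = w from rfl,
    pow_succ, sq, hw, mul_comm]
  exact mul_succ_eq_one hw

include hn

theorem units_cases (u : Kˣ) : u = 1 ∨ (u : K) = w ∨ (u : K) = w + 1 := by
  have h3 : (u : K) ^ 3 = 1 := by
    have h := FiniteField.pow_card_sub_one_eq_one (u : K) u.ne_zero
    rwa [hn] at h
  have h0 : ((u : K) - 1) * (((u : K) - w) * ((u : K) - (w + 1))) = 0 := by
    linear_combination h3 + ((u : K) - 1) * hw +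
      ((u : K) - 1) * (w - (w + 1) * (u : K)) * (CharTwo.two_eq_zero : (2 : K) = 0)
  rcases mul_eq_zero.1 h0 with h | h
  · exact Or.inl (Units.ext (sub_eq_zero.1 h))
  · rcases mul_eq_zero.1 h with h | h
    · exact Or.inr (Or.inl (sub_eq_zero.1 h))
    · exact Or.inr (Or.inr (sub_eq_zero.1 h))

theorem exists_pow (u : Kˣ) : ∃ i : Fin 3, u = omU hw ^ i.val := by
  rcases units_cases hw hn u with h | h | h
  · exact ⟨0, by simp [h]⟩
  · exact ⟨1, Units.ext (by rw [h, Fin.val_one, pow_one]; rfl)⟩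
  · exact ⟨2, Units.ext (by
      rw [h, Units.val_pow_eq_pow_val]
      show w + 1 = w ^ (2 : ℕ)
      rw [sq, hw])⟩

/-- A torus element of the group permutes the generators up to products of two. -/
theorem exists_conj_torus {c : Fin chevE6.rank → Kˣ}
    (hc : c ∈ fixTorus piE6 (fun _ => 2 ^ 1)) : ∃ e : Fin 3, ∀ q < 72,
      (coreE6 K).R.torus c * gGL w q * ((coreE6 K).R.torus c)⁻¹ = ev (gGL w) (timg e q) := by
  obtain ⟨h5, h4, h3, h1⟩ := fixE6_eq K (mem_fixTorus.1 hc)
  have hone : ∀ u : Kˣ, u ^ 2 ^ 1 = u → u = 1 := fun u hu => by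
    rw [pow_one, sq] at hu
    exact mul_eq_left.1 hu
  replace h3 := hone _ h3
  replace h1 := hone _ h1
  obtain ⟨i, hi⟩ := exists_pow hw hn (c (nodeE6 0))
  obtain ⟨j, hj⟩ := exists_pow hw hn (c (nodeE6 2))
  refine ⟨⟨(2 * (i.val + j.val)) % 3, Nat.mod_lt _ (by norm_num)⟩, fun q hq => ?_⟩
  set e := (2 * (i.val + j.val)) % 3 with he
  set ω := omU hw with hω
  have hω3 : ω ^ 3 = 1 := omU_cube hw
  have hval : (ω : K) = w := rfl
  have hχ : ∀ (r : ℕ), r < 72 →
      (coreE6 K).R.torusChar c ((coreE6 K).R.α (rt r)) = ω ^ kT e r := by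
    intro r hr
    rw [(coreE6 K).R.torusChar_root _ (rt_lt hr), prod_nodeE6, h5, h4, h3, h1, hi, hj,
      show ((2 : ℕ) ^ 1) = 2 from rfl]
    simp only [one_zpow, mul_one, ← zpow_natCast, ← zpow_mul, ← zpow_add, nodeE6]
    rw [← (weight_check i j ⟨r, hr⟩).1]
    have key : ∀ m n : ℤ, m % 3 = n → ω ^ m = ω ^ n := fun m n hmn => by
      rw [← Int.emod_add_mul_ediv m 3, hmn, zpow_add, zpow_mul,
        show ω ^ (3 : ℤ) = 1 from by exact_mod_cast hω3, one_zpow, mul_one]
    refine key _ _ ?_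
    congr 1
    push_cast
    ring
  have hact : ∀ r < 72, ∀ t : K, (coreE6 K).R.torus c * (coreE6 K).xGL (rt r) t *
      ((coreE6 K).R.torus c)⁻¹ = (coreE6 K).xGL (rt r) ((w ^ kT e r : K) * t) := fun r hr t => by
    have h := (coreE6 K).acts_torus c ⟨rt r, rt_lt hr⟩ t
    rw [hχ r hr, Units.val_pow_eq_pow_val, hval] at h
    exact h
  have hk := (weight_check i j ⟨q, hq⟩).2
  simp only [← he] at hk
  by_cases hρ : rho q = q
  · rw [hρ] at hk
    have h0 : kT e q = 0 := by
      have : kT e q < 3 := Nat.mod_lt _ (by norm_num)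
      omega
    rw [timg, h0, if_pos (Nat.beq_refl 0), ev_cons, ev_nil, mul_one, gGL_fixed w hρ, hact q hq, h0,
      pow_zero, one_mul]
  · have hρ' := rho_lt hq
    obtain ⟨n1, n2, n3, -⟩ := pair_check ⟨q, hq⟩ hρ
    have hcomm : ∀ s t : K, (coreE6 K).xGL (rt (rho q)) t * (coreE6 K).xGL (rt q) s =
        (coreE6 K).xGL (rt q) s * (coreE6 K).xGL (rt (rho q)) t := fun s t =>
      (coreE6 K).xGL_commute (rt_lt hq) (rt_lt hρ') (Ne.symm n1) n2 (by simp [n3]) s t
    have hρ2 : rho (rho q) ≠ rho q := by rw [rho_rho hq]; exact Ne.symm hρ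
    rw [gGL_pair w hρ, show (coreE6 K).R.torus c * ((coreE6 K).xGL (rt q) w *
        (coreE6 K).xGL (rt (rho q)) (w + 1)) * ((coreE6 K).R.torus c)⁻¹ =
      (coreE6 K).R.torus c * (coreE6 K).xGL (rt q) w * ((coreE6 K).R.torus c)⁻¹ *
        ((coreE6 K).R.torus c * (coreE6 K).xGL (rt (rho q)) (w + 1) *
          ((coreE6 K).R.torus c)⁻¹) by group, hact q hq, hact (rho q) hρ', hk]
    have m1 : w * (w + 1) = 1 := mul_succ_eq_one hw
    have : kT e q < 3 := Nat.mod_lt _ (by norm_num)
    unfold timg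
    generalize kT e q = k at this
    interval_cases k
    · simp [gGL_pair w hρ, ev_cons]
    · show _ = ev (gGL w) [rho q]
      rw [ev_cons, ev_nil, mul_one, gGL_pair w hρ2, rho_rho hq, hcomm, pow_one, hw,
        show 2 * 1 % 3 = 2 from rfl, sq, hw, show (w + 1) * (w + 1) = w by
          linear_combination hw + (w + 1) * (CharTwo.two_eq_zero : (2 : K) = 0)]
      simp
    · show _ = ev (gGL w) [q, rho q]
      rw [ev_cons, ev_cons, ev_nil, mul_one, gGL_pair w hρ, gGL_pair w hρ2, rho_rho hq, sq, hw,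
        show (w + 1) * w = 1 by rw [mul_comm]; exact m1, show 2 * 2 % 3 = 1 from rfl, pow_one, m1,
        mul_assoc ((coreE6 K).xGL (rt q) w), ← mul_assoc ((coreE6 K).xGL (rt (rho q)) (w + 1)),
        ← (coreE6 K).xGL_add,
        show w + 1 + w = 1 by linear_combination w * (CharTwo.two_eq_zero : (2 : K) = 0),
        hcomm, ← mul_assoc, ← (coreE6 K).xGL_add,
        show w + (w + 1) = 1 by linear_combination w * (CharTwo.two_eq_zero : (2 : K) = 0)]

end field

end CfsgLib.Schur.E6Two
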