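import Cfsg.Agent.Lib.Schur.E6Two.UpperData0
import Cfsg.Agent.Lib.Schur.E6Two.UpperData1
import Cfsg.Agent.Lib.Schur.E6Two.UpperData2
import Cfsg.Agent.Lib.Schur.E6Two.UpperData3
import Cfsg.Agent.Lib.Schur.E6Two.UpperData4
import Cfsg.Agent.Lib.Schur.E6Two.UpperData5
import Cfsg.Agent.Lib.Schur.E6Two.UpperData6
import Cfsg.Agent.Lib.Schur.E6Two.UpperData7

/-!
The certificate for the two-part of the multiplier of ²E₆(2), assembled: every tail is a product of
powers of two central involutions.
-/

set_option autoImplicit false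
set_option maxRecDepth 100000

namespace CfsgLib.Schur.E6Two

/-- The gauge: for each index a pair of indices whose commutator it is. -/
def decList : List (ℕ × ℕ) := [(31, 1), (40, 0), (45, 0), (29, 8), (35, 5), (41, 4), (54, 0), (36, 3), (46, 3), (58, 0), (39, 5), (51, 3), (58, 1), (62, 0), (44, 5), (55, 4), (56, 3), (65, 0), (52, 3), (50, 5), (60, 4), (51, 8), (55, 5), (65, 1), (57, 3), (63, 4), (69, 0), (56, 8), (60, 5), (61, 3), (66, 3), (70, 0), (56, 11), (69, 1), (63, 5), (64, 4), (67, 7), (66, 8), (70, 2), (60, 15), (71, 1), (68, 5), (68, 10), (66, 11), (63, 15), (71, 2), (67, 8), (68, 14), (70, 6), (66, 16), (63, 20), (67, 11), (66, 21), (68, 19), (71, 6), (68, 15), (67, 16), (66, 27), (71, 9), (70, 13), (68, 20), (66, 32), (71, 13), (68, 25), (68, 35), (71, 17), (67, 30), (66, 36), (63, 42), (71, 26), (71, 31), (70, 40)]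

/-- The decomposition of an index. -/
def dec (k : ℕ) : ℕ × ℕ := decList.getD k (0, 0)

/-- The tail of the first generator. -/
def eOne : ℕ := 2773

/-- The tail of the second generator. -/
def eTwo : ℕ := 2631

/-- The step showing that the first generator is an involution. -/
def ordOne : Step := (0x13264b488, 0x22312341, 0x2)

/-- The step showing that the second generator is an involution. -/
def ordTwo : Step := (0x12244f488, 0x22312341, 0x2)

theorem dec_check : ∀ k < 72, ok (dec k).2 (dec k).1 = true ∧ tab (dec k).2 (dec k).1 = [k] := by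
  decide +kernel

/-- The tails known at the start are the decompositions and the two generators. -/
def startOK : Bool :=
  (List.range 5184).all (fun u => !(Nat.testBit Cert0.before u) || Nat.beq u eOne || Nat.beq u eTwo ||
    (Nat.beq (expo u).1 0 && Nat.beq (expo u).2 0 &&
      (List.range 72).any fun k => Nat.beq u (72 * (dec k).2 + (dec k).1))) &&
    Nat.blt Cert0.before (1 <<< 5184)

theorem startOK_eq : startOK = true := by decide +kernel

theorem expo_gens : expo eOne = (1, 0) ∧ expo eTwo = (0, 1) := by decide +kernel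

theorem link_check : (Nat.beq Cert0.after Cert1.before && Nat.beq Cert1.after Cert2.before && Nat.beq Cert2.after Cert3.before && Nat.beq Cert3.after Cert4.before && Nat.beq Cert4.after Cert5.before && Nat.beq Cert5.after Cert6.before && Nat.beq Cert6.after Cert7.before) = true := by
  decide +kernel

theorem ord_check : (stepOrd Cert6.before (2, 0) ordOne && stepOrd Cert6.before (0, 2) ordTwo) = true := by
  decide +kernel

theorem final_check : ((List.range 72).all fun b => Nat.testBit Cert7.after (73 * b) &&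
    Nat.beq (expo (73 * b)).1 0 && Nat.beq (expo (73 * b)).2 0 &&
    (List.range 72).all fun a => !(ok b a) || Nat.testBit Cert7.after (72 * b + a)) = true := by
  decide +kernel

variable {Γ : Type*} [Group Γ] {X τ : ℕ → Γ}

/-- In a group with the rules up to central tails, normalised on the decompositions, the rules hold
twisted by two tails squaring to one. -/
theorem tails_eq (hT : Tailed X τ) (h0 : ∀ k < 72, τ (72 * (dec k).2 + (dec k).1) = 1) :
    Sat (List.range 72) X (τ eOne, τ eTwo) := by
  have hc : CenPair (τ eOne, τ eTwo) := ⟨hT.central eOne, hT.central eTwo⟩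
  have hK0 : Known τ (τ eOne, τ eTwo) Cert0.before := by
    intro u hu
    have h := startOK_eq
    simp only [startOK, Bool.and_eq_true, List.all_eq_true, List.mem_range, Bool.or_eq_true,
      List.any_eq_true, Bool.not_eq_true'] at h
    have hu' : u < 5184 := by
      by_contra hge
      have := Nat.testBit_lt_two_pow (lt_of_lt_of_le (Nat.one_shiftLeft _ ▸ Nat.le_of_ble_eq_true h.2)
        (Nat.pow_le_pow_right two_pos (not_lt.1 hge)))
      rw [this] at hu
      exact Bool.false_ne_true hu
    rcases h.1 u hu' with ((h1 | h1) | h1) | ⟨⟨h1, h2⟩, k, hk, h3⟩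
    · rw [h1] at hu; exact absurd hu Bool.false_ne_true
    · rw [Nat.eq_of_beq_eq_true h1, expo_gens.1]; simp [cz]
    · rw [Nat.eq_of_beq_eq_true h1, expo_gens.2]; simp [cz]
    · rw [show expo u = (0, 0) from
        Prod.ext (Nat.eq_of_beq_eq_true h1) (Nat.eq_of_beq_eq_true h2), cz_zero',
        Nat.eq_of_beq_eq_true h3]
      exact h0 k hk
  have hl := link_check
  simp only [Bool.and_eq_true] at hl
  obtain ⟨⟨⟨⟨⟨⟨l0, l1⟩, l2⟩, l3⟩, l4⟩, l5⟩, l6⟩ := hl
  have hA0 := reaches_sound (P := Known τ (τ eOne, τ eTwo)) (fun K K' s => stepA_sound hT hc)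
    hK0 Cert0.check
  have hK1 : Known τ (τ eOne, τ eTwo) Cert1.before := Nat.eq_of_beq_eq_true l0 ▸ hA0
  have hA1 := reaches_sound (P := Known τ (τ eOne, τ eTwo)) (fun K K' s => stepA_sound hT hc)
    hK1 Cert1.check
  have hK2 : Known τ (τ eOne, τ eTwo) Cert2.before := Nat.eq_of_beq_eq_true l1 ▸ hA1
  have hA2 := reaches_sound (P := Known τ (τ eOne, τ eTwo)) (fun K K' s => stepA_sound hT hc)
    hK2 Cert2.check
  have hK3 : Known τ (τ eOne, τ eTwo) Cert3.before := Nat.eq_of_beq_eq_true l2 ▸ hA2
  have hA3 := reaches_sound (P := Known τ (τ eOne, τ eTwo)) (fun K K' s => stepA_sound hT hc)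
    hK3 Cert3.check
  have hK4 : Known τ (τ eOne, τ eTwo) Cert4.before := Nat.eq_of_beq_eq_true l3 ▸ hA3
  have hA4 := reaches_sound (P := Known τ (τ eOne, τ eTwo)) (fun K K' s => stepA_sound hT hc)
    hK4 Cert4.check
  have hK5 : Known τ (τ eOne, τ eTwo) Cert5.before := Nat.eq_of_beq_eq_true l4 ▸ hA4
  have hA5 := reaches_sound (P := Known τ (τ eOne, τ eTwo)) (fun K K' s => stepA_sound hT hc)
    hK5 Cert5.check
  have hK6 : Known τ (τ eOne, τ eTwo) Cert6.before := Nat.eq_of_beq_eq_true l5 ▸ hA5
  have hord := ord_check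
  rw [Bool.and_eq_true] at hord
  have q1 : τ eOne * τ eOne = 1 := by
    simpa [cz, pow_two] using stepOrd_sound hT hc hK6 hord.1
  have q2 : τ eTwo * τ eTwo = 1 := by
    simpa [cz, pow_two] using stepOrd_sound hT hc hK6 hord.2
  have hC : Central [] X (τ eOne, τ eTwo) :=
    ⟨q1, q2, hT.central eOne _, fun a ha => absurd ha List.not_mem_nil,
      fun a ha => absurd ha List.not_mem_nil⟩
  have hA6 := reaches_sound (P := Known τ (τ eOne, τ eTwo)) (fun K K' s => stepB_sound hT hc hC)
    hK6 Cert6.check
  have hK7 : Known τ (τ eOne, τ eTwo) Cert7.before := Nat.eq_of_beq_eq_true l6 ▸ hA6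
  have hA7 := reaches_sound (P := Known τ (τ eOne, τ eTwo)) (fun K K' s => stepB_sound hT hc hC)
    hK7 Cert7.check
  have hF := final_check
  simp only [List.all_eq_true, Bool.and_eq_true, List.mem_range, Bool.or_eq_true,
    Bool.not_eq_true'] at hF
  refine ⟨⟨q1, q2, hT.central eOne _, fun a _ => hT.central eOne _, fun a _ => hT.central eTwo _⟩,
    fun a ha => ?_, fun a ha b hb hok => ?_⟩
  · rw [List.mem_range] at ha
    obtain ⟨⟨⟨g1, g2⟩, g3⟩, -⟩ := hF a ha
    rw [hT.sq a ha, hA7 _ g1, show expo (73 * a) = (0, 0) from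
      Prod.ext (Nat.eq_of_beq_eq_true g2) (Nat.eq_of_beq_eq_true g3), cz_zero']
  · rw [List.mem_range] at ha hb
    rw [hT.swap a b hok, hA7 _ (((hF b hb).2 a ha).resolve_left (by simp [hok])), expo,
      show (72 * b + a) / 72 = b by omega, show (72 * b + a) % 72 = a by omega]

end CfsgLib.Schur.E6Two
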