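import Cfsg.Agent.Lib.Schur.E6Two.Rules

/-!
The checker of the certificate for the two-part of the multiplier of ²E₆(2): in a group where the
commutator rules hold up to central tails, the overlaps of the rules make every tail a product of
powers of two of them, both squaring to one.
-/

set_option autoImplicit false
set_option maxRecDepth 100000

namespace CfsgLib.Schur.E6Two

/-- A step of the certificate: the packed word with its tail, and two packed move sequences. -/
abbrev Step : Type := ℕ × ℕ × ℕ

/-- The tail fixed by a step. -/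
def stepTail (s : Step) : ℕ := s.1 % 8192

/-- The overlapping word of a step. -/
def stepWord (s : Step) : List ℕ :=
  [s.1 / 8192 % 128, s.1 / 1048576 % 128, s.1 / 134217728 % 128]

/-- A packed list of positions. -/
def unpackPos : ℕ → ℕ → List ℕ
  | 0, _ => []
  | f + 1, x => if Nat.beq x 0 then [] else (x % 16 - 1) :: unpackPos f (x / 16)

/-- The expected exponents of a tail. -/
def expo (u : ℕ) : ℕ × ℕ := twist (u / 72) (u % 72)

/-- The contribution of a tail: the exponents of the generators and of the tail being determined,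
and the tails not yet known. -/
def weight (K v u : ℕ) : (ℕ × ℕ) × ℕ × List ℕ :=
  if Nat.beq u v then ((0, 0), 1, [])
  else if Nat.testBit K u then (expo u, 0, []) else ((0, 0), 0, [u])

/-- One rewriting at a position. -/
def moveAt (K v : ℕ) : ℕ → List ℕ → Option (List ℕ × (ℕ × ℕ) × ℕ × List ℕ)
  | 0, a :: b :: w =>
    if Nat.beq a b then
      if Nat.blt a 72 then some (w, weight K v (73 * a)) else none
    else if ok b a then some (b :: a :: tab b a ++ w, weight K v (72 * b + a))
    else none
  | n + 1, a :: w => (moveAt K v n w).map fun r => (a :: r.1, r.2)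
  | _, _ => none

/-- A sequence of rewritings. -/
def runMoves (K v : ℕ) : List ℕ → List ℕ → Option (List ℕ × (ℕ × ℕ) × ℕ × List ℕ)
  | [], w => some (w, (0, 0), 0, [])
  | n :: ns, w =>
    match moveAt K v n w with
    | none => none
    | some (w', m, p, r) =>
      match runMoves K v ns w' with
      | none => none
      | some (w'', m', p', r') => some (w'', (m.1 + m'.1, m.2 + m'.2), p + p', r ++ r')

/-- The two ends of a step. -/
def stepEnds (K : ℕ) (s : Step) : Option ((ℕ × ℕ) × ℕ × (ℕ × ℕ) × ℕ) :=
  match runMoves K (stepTail s) (unpackPos 64 s.2.1) (stepWord s),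
      runMoves K (stepTail s) (unpackPos 64 s.2.2) (stepWord s) with
  | some (w, m, p, r), some (w', m', p', r') =>
    if w == w' && r.isPerm r' then some (m, p, m', p') else none
  | _, _ => none

/-- A step before the generators are known to be involutions. -/
def stepA (K : ℕ) (s : Step) : Option ℕ :=
  match stepEnds K s with
  | some (m, p, m', p') =>
    if Nat.beq m.1 m'.1 && Nat.beq m.2 m'.2 && (Nat.beq (p + 1) p' || Nat.beq (p' + 1) p) &&
        (Nat.beq (expo (stepTail s)).1 0 && Nat.beq (expo (stepTail s)).2 0) then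
      some (K ||| 1 <<< stepTail s) else none
  | none => none

/-- A step afterwards. -/
def stepB (K : ℕ) (s : Step) : Option ℕ :=
  match stepEnds K s with
  | some (m, p, m', p') =>
    if (Nat.beq (p + 1) p' || Nat.beq (p' + 1) p) &&
        Nat.beq ((m.1 + m'.1 + (expo (stepTail s)).1) % 2) 0 &&
        Nat.beq ((m.2 + m'.2 + (expo (stepTail s)).2) % 2) 0 then
      some (K ||| 1 <<< stepTail s) else none
  | none => none

/-- A step showing that a product of powers of the generators is trivial. -/
def stepOrd (K : ℕ) (e : ℕ × ℕ) (s : Step) : Bool :=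
  match stepEnds K s with
  | some (m, p, m', p') => Nat.beq p 0 && Nat.beq p' 0 && Nat.beq m.1 e.1 && Nat.beq m.2 e.2 &&
      Nat.beq m'.1 0 && Nat.beq m'.2 0
  | none => false

/-- A run of steps. -/
def runSteps (f : ℕ → Step → Option ℕ) : List Step → ℕ → Option ℕ
  | [], K => some K
  | s :: l, K =>
    match f K s with
    | none => none
    | some K' => runSteps f l K'

/-- A run of steps leads to the expected set of known tails. -/
def reaches (f : ℕ → Step → Option ℕ) (l : List Step) (K K' : ℕ) : Bool :=
  match runSteps f l K with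
  | some x => Nat.beq x K'
  | none => false

variable {Γ : Type*} [Group Γ]

/-- The rules up to central tails. -/
structure Tailed (X : ℕ → Γ) (τ : ℕ → Γ) : Prop where
  central : ∀ u g, τ u * g = g * τ u
  sq : ∀ a < 72, X a * X a = τ (73 * a)
  swap : ∀ a b, ok b a = true → X a * X b = X b * X a * ev X (tab b a) * τ (72 * b + a)

/-- The known tails are the expected products. -/
def Known (τ : ℕ → Γ) (c : Γ × Γ) (K : ℕ) : Prop :=
  ∀ u, Nat.testBit K u = true → τ u = cz c (expo u)

/-- The two generators are central. -/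
structure CenPair (c : Γ × Γ) : Prop where
  left : ∀ g, c.1 * g = g * c.1
  right : ∀ g, c.2 * g = g * c.2

variable {X τ : ℕ → Γ} {c : Γ × Γ}

theorem CenPair.cz_comm (hc : CenPair c) (e : ℕ × ℕ) (g : Γ) : cz c e * g = g * cz c e :=
  (Commute.mul_left ((show Commute c.1 g from hc.left g).pow_left _)
    ((show Commute c.2 g from hc.right g).pow_left _)).eq

theorem CenPair.cz_add (hc : CenPair c) (d e : ℕ × ℕ) :
    cz c (d.1 + e.1, d.2 + e.2) = cz c d * cz c e := by
  have h : Commute (c.1 ^ e.1) (c.2 ^ d.2) :=
    (show Commute c.1 c.2 from hc.left c.2).pow_pow _ _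
  rw [cz, cz, cz, pow_add, pow_add, mul_assoc, mul_assoc, ← mul_assoc (c.1 ^ e.1), h.eq, mul_assoc]

theorem weight_sound {K v u p : ℕ} {m : ℕ × ℕ} {r : List ℕ} (hK : Known τ c K)
    (h : weight K v u = (m, p, r)) : τ u = cz c m * τ v ^ p * ev τ r := by
  unfold weight at h
  split at h
  · next hu =>
    simp only [Prod.mk.injEq] at h
    obtain ⟨rfl, rfl, rfl⟩ := h
    rw [Nat.eq_of_beq_eq_true hu]; simp
  · split at h
    · next hu =>
      simp only [Prod.mk.injEq] at h
      obtain ⟨rfl, rfl, rfl⟩ := h
      simp [hK u hu]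
    · simp only [Prod.mk.injEq] at h
      obtain ⟨rfl, rfl, rfl⟩ := h
      simp [ev_cons]

theorem moveAt_sound {K v : ℕ} (hT : Tailed X τ) (hK : Known τ c K) :
    ∀ (n : ℕ) (w w' : List ℕ) (m : ℕ × ℕ) (p : ℕ) (r : List ℕ),
      moveAt K v n w = some (w', m, p, r) → ev X w = ev X w' * (cz c m * τ v ^ p * ev τ r) := by
  intro n
  induction n with
  | zero =>
    intro w w' m p r h
    match w, h with
    | [], h => simp [moveAt] at h
    | [_], h => simp [moveAt] at h
    | a :: b :: w, h =>
      simp only [moveAt] at h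
      split at h
      · next hab =>
        obtain rfl := Nat.eq_of_beq_eq_true hab
        split at h
        · next ha =>
          simp only [Option.some.injEq, Prod.mk.injEq] at h
          obtain ⟨rfl, hwt⟩ := h
          rw [ev_cons, ev_cons, ← mul_assoc, hT.sq a (Nat.le_of_ble_eq_true ha), hT.central,
            weight_sound hK hwt]
        · simp at h
      · split at h
        · next hok =>
          simp only [Option.some.injEq, Prod.mk.injEq] at h
          obtain ⟨rfl, hwt⟩ := h
          rw [ev_cons, ev_cons, ← mul_assoc, hT.swap a b hok, mul_assoc _ (τ (72 * b + a)),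
            hT.central, weight_sound hK hwt]
          simp only [ev_cons, ev_append, List.cons_append, mul_assoc]
        · simp at h
  | succ n ih =>
    intro w w' m p r h
    match w, h with
    | [], h => simp [moveAt] at h
    | a :: w, h =>
      simp only [moveAt, Option.map_eq_some_iff, Prod.mk.injEq] at h
      obtain ⟨⟨w₁, m₁, p₁, r₁⟩, h1, rfl, h2⟩ := h
      simp only [Prod.mk.injEq] at h2
      obtain ⟨rfl, rfl, rfl⟩ := h2
      show _ = ev X (a :: w₁) * _
      rw [ev_cons, ih w w₁ _ _ _ h1, ev_cons]
      simp only [mul_assoc]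

theorem shuffle {a b d : Γ} (ha : ∀ g, a * g = g * a) (hb : ∀ g, b * g = g * b)
    (hd : ∀ g, d * g = g * d) (a' b' d' : Γ) :
    a' * b' * d' * (a * b * d) = a * a' * (b * b') * (d * d') := by
  rw [show a' * b' * d' * (a * b * d) = (a' * b' * d' * a) * (b * d) by group, ← ha]
  simp only [mul_assoc]
  rw [← mul_assoc d' b d, ← hb d', mul_assoc, ← mul_assoc b' b, ← hb b', mul_assoc, ← hd d']

theorem runMoves_sound {K v : ℕ} (hT : Tailed X τ) (hc : CenPair c) (hK : Known τ c K) :
    ∀ (ns w w' : List ℕ) (m : ℕ × ℕ) (p : ℕ) (r : List ℕ), runMoves K v ns w = some (w', m, p, r) →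
      ev X w = ev X w' * (cz c m * τ v ^ p * ev τ r) := by
  intro ns
  induction ns with
  | nil =>
    intro w w' m p r h
    simp only [runMoves, Option.some.injEq, Prod.mk.injEq] at h
    obtain ⟨rfl, rfl, rfl, rfl⟩ := h
    simp
  | cons n ns ih =>
    intro w w' m p r h
    simp only [runMoves] at h
    split at h
    · simp at h
    · next w₁ m₁ p₁ r₁ h1 =>
      split at h
      · simp at h
      · next w₂ m₂ p₂ r₂ h2 =>
        simp only [Option.some.injEq, Prod.mk.injEq] at h
        obtain ⟨rfl, rfl, rfl, rfl⟩ := h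
        rw [moveAt_sound hT hK n w w₁ m₁ p₁ r₁ h1, ih w₁ w₂ m₂ p₂ r₂ h2, hc.cz_add, pow_add,
          ev_append, mul_assoc (ev X w₂)]
        congr 1
        have c2 : ∀ g, τ v ^ p₁ * g = g * τ v ^ p₁ := fun g =>
          ((show Commute (τ v) g from hT.central v g).pow_left _).eq
        have c3 : ∀ g, ev τ r₁ * g = g * ev τ r₁ := fun g =>
          (commute_ev fun a _ => (hT.central a g).symm).symm.eq
        exact shuffle (hc.cz_comm m₁) c2 c3 _ _ _

theorem ev_perm {r r' : List ℕ} (hT : Tailed X τ) (h : r.Perm r') : ev τ r = ev τ r' :=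
  List.Perm.prod_eq' (h.map τ)
    (List.pairwise_map.2 (List.pairwise_of_forall fun a _ => hT.central a _))

theorem stepEnds_sound {K : ℕ} {s : Step} (hT : Tailed X τ) (hc : CenPair c) (hK : Known τ c K)
    {m m' : ℕ × ℕ} {p p' : ℕ} (h : stepEnds K s = some (m, p, m', p')) :
    cz c m * τ (stepTail s) ^ p = cz c m' * τ (stepTail s) ^ p' := by
  unfold stepEnds at h
  split at h
  · next w m₁ p₁ r₁ w' m₂ p₂ r₂ h1 h2 =>
    split at h
    · next hw =>
      simp only [Option.some.injEq, Prod.mk.injEq] at h
      obtain ⟨rfl, rfl, rfl, rfl⟩ := h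
      rw [Bool.and_eq_true, beq_iff_eq, List.isPerm_iff] at hw
      obtain ⟨rfl, hr⟩ := hw
      have e := mul_left_cancel ((runMoves_sound hT hc hK _ _ _ _ _ _ h1).symm.trans
        (runMoves_sound hT hc hK _ _ _ _ _ _ h2))
      rw [ev_perm hT hr] at e
      exact mul_right_cancel e
    · simp at h
  · simp at h

theorem testBit_or {K v u : ℕ} (h : Nat.testBit (K ||| 1 <<< v) u = true) :
    Nat.testBit K u = true ∨ u = v := by
  rw [Nat.testBit_lor, Bool.or_eq_true, Nat.one_shiftLeft, Nat.testBit_two_pow] at h
  exact h.imp id fun h => ((decide_eq_true_iff).1 h).symm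

theorem Known.insert {K v : ℕ} (hK : Known τ c K) (h : τ v = cz c (expo v)) :
    Known τ c (K ||| 1 <<< v) := fun u hu => by
  rcases testBit_or hu with hu | rfl
  · exact hK u hu
  · exact h

theorem stepA_sound {K K' : ℕ} {s : Step} (hT : Tailed X τ) (hc : CenPair c)
    (hK : Known τ c K) (h : stepA K s = some K') : Known τ c K' := by
  unfold stepA at h
  split at h
  · next m p m' p' he =>
    split at h
    · next hb =>
      simp only [Option.some.injEq] at h
      subst h
      simp only [Bool.and_eq_true, Bool.or_eq_true] at hb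
      obtain ⟨⟨⟨hm1, hm2⟩, hp⟩, hx1, hx2⟩ := hb
      obtain rfl : m = m' := Prod.ext (Nat.eq_of_beq_eq_true hm1) (Nat.eq_of_beq_eq_true hm2)
      have e := mul_left_cancel (stepEnds_sound hT hc hK he)
      refine hK.insert ?_
      rw [show expo (stepTail s) = (0, 0) from
        Prod.ext (Nat.eq_of_beq_eq_true hx1) (Nat.eq_of_beq_eq_true hx2), cz_zero']
      rcases hp with hp | hp <;> rw [← Nat.eq_of_beq_eq_true hp, pow_succ] at e
      · exact mul_left_cancel (e.symm.trans (mul_one _).symm)
      · exact mul_left_cancel (e.trans (mul_one _).symm)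
    · simp at h
  · simp at h

theorem stepOrd_sound {K : ℕ} {e : ℕ × ℕ} {s : Step} (hT : Tailed X τ) (hc : CenPair c)
    (hK : Known τ c K) (h : stepOrd K e s = true) : cz c e = 1 := by
  unfold stepOrd at h
  split at h
  · next m p m' p' he =>
    simp only [Bool.and_eq_true] at h
    obtain ⟨⟨⟨⟨⟨h1, h2⟩, h3⟩, h4⟩, h5⟩, h6⟩ := h
    have q := stepEnds_sound hT hc hK he
    rw [show m = e from Prod.ext (Nat.eq_of_beq_eq_true h3) (Nat.eq_of_beq_eq_true h4),
      show m' = (0, 0) from Prod.ext (Nat.eq_of_beq_eq_true h5) (Nat.eq_of_beq_eq_true h6),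
      Nat.eq_of_beq_eq_true h1, Nat.eq_of_beq_eq_true h2, pow_zero, mul_one, mul_one,
      cz_zero'] at q
    exact q
  · exact absurd h Bool.false_ne_true

theorem stepB_sound {K K' : ℕ} {s : Step} (hT : Tailed X τ) (hc : CenPair c)
    (hC : Central [] X c) (hK : Known τ c K) (h : stepB K s = some K') : Known τ c K' := by
  unfold stepB at h
  split at h
  · next m p m' p' he =>
    split at h
    · next hb =>
      simp only [Option.some.injEq] at h
      subst h
      simp only [Bool.and_eq_true, Bool.or_eq_true] at hb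
      obtain ⟨⟨hp, h1⟩, h2⟩ := hb
      replace h1 := Nat.eq_of_beq_eq_true h1
      replace h2 := Nat.eq_of_beq_eq_true h2
      have e := stepEnds_sound hT hc hK he
      refine hK.insert ?_
      rw [hC.cz_parity (d := expo (stepTail s)) (e := (m.1 + m'.1, m.2 + m'.2)) (by
        show (expo (stepTail s)).1 % 2 = (m.1 + m'.1) % 2
        omega) (by
        show (expo (stepTail s)).2 % 2 = (m.2 + m'.2) % 2
        omega), hc.cz_add]
      have c2 : ∀ n : ℕ, ∀ g, τ (stepTail s) ^ n * g = g * τ (stepTail s) ^ n := fun n g =>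
        ((show Commute (τ (stepTail s)) g from hT.central _ g).pow_left _).eq
      rcases hp with hp | hp <;> rw [← Nat.eq_of_beq_eq_true hp, pow_succ, ← mul_assoc] at e
      · have e1 : cz c m = cz c m' * τ (stepTail s) :=
          mul_right_cancel (e.trans (by rw [mul_assoc, c2, ← mul_assoc]))
        rw [e1, mul_assoc, hT.central, ← mul_assoc, hC.cz_self, one_mul]
      · have e1 : cz c m' = cz c m * τ (stepTail s) :=
          mul_right_cancel (e.symm.trans (by rw [mul_assoc, c2, ← mul_assoc]))
        rw [e1, ← mul_assoc, hC.cz_self, one_mul]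
    · simp at h
  · simp at h

theorem runSteps_sound {P : ℕ → Prop} {f : ℕ → Step → Option ℕ}
    (hf : ∀ K K' s, P K → f K s = some K' → P K') :
    ∀ (l : List Step) (K K' : ℕ), P K → runSteps f l K = some K' → P K' := by
  intro l
  induction l with
  | nil => intro K K' hK h; rw [runSteps, Option.some.injEq] at h; exact h ▸ hK
  | cons s l ih =>
    intro K K' hK h
    simp only [runSteps] at h
    split at h
    · simp at h
    · next K₁ h1 => exact ih K₁ K' (hf K K₁ s hK h1) h

theorem reaches_sound {P : ℕ → Prop} {f : ℕ → Step → Option ℕ}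
    (hf : ∀ K K' s, P K → f K s = some K' → P K') {l : List Step} {K K' : ℕ} (hK : P K)
    (h : reaches f l K K' = true) : P K' := by
  unfold reaches at h
  split at h
  · next x hx => exact Nat.eq_of_beq_eq_true h ▸ runSteps_sound hf l K x hK hx
  · exact absurd h Bool.false_ne_true

end CfsgLib.Schur.E6Two
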